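import Groth.Agent.FunFld.Ext.Lattice
import Mathlib.RingTheory.Trace.Basic
import Mathlib.LinearAlgebra.Matrix.Adjugate
import Mathlib.LinearAlgebra.Matrix.Charpoly.Coeff

/-! A basis with unit discriminant: integrality of coordinates and absence of ramification. -/

namespace Groth.Agent.FunFld

open _root_.FunFld WithZero IsLocalRing

variable {k K K' : Type*} [Field k] [Field K] [Field K'] [Algebra k K] [Algebra K K'] [Algebra k K']
  [IsScalarTower k K K'] [FiniteDimensional K K'] (hK : IsFunctionField k K)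
include hK

theorem val_trace (P : Place k K) {w : K'} (hw : ∀ Q : Place k K', IsOver Q P → Q.1 w ≤ 1) :
    P.1 (Algebra.trace K K' w) ≤ 1 ∧
    ((∀ Q : Place k K', IsOver Q P → Q.1 w < 1) → P.1 (Algebra.trace K K' w) < 1) := by
  classical
  letI : Algebra P.O K' := ((algebraMap K K').comp P.O.subtype).toAlgebra
  haveI : IsScalarTower P.O K K' := IsScalarTower.of_algebraMap_eq fun _ => rfl
  obtain ⟨b, bK, hbK⟩ := exists_basis (K' := K') hK P
  let w' : Bring hK P K' := ⟨w, fun Q hQ => hw Q ((mem_placesOver hK).1 hQ)⟩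
  have hrepr : ∀ (y : Bring hK P K') i, bK.repr (y : K') i = (b.repr y i : K) := by
    intro y i
    have h : (y : K') = ∑ j, ((b.repr y j : P.O) : K) • bK j := by
      conv_lhs => rw [← b.sum_repr y]
      rw [AddSubmonoidClass.coe_finsetSum]
      refine Finset.sum_congr rfl fun j _ => ?_
      rw [Subalgebra.coe_smul, hbK, Algebra.smul_def, Algebra.smul_def]; rfl
    rw [h, bK.repr_sum_self]
  have htr : Algebra.trace K K' w = ((Algebra.trace P.O (Bring hK P K') w' : P.O) : K) := by
    rw [Algebra.trace_eq_matrix_trace bK, Algebra.trace_eq_matrix_trace b, Matrix.trace, Matrix.trace,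
      AddSubmonoidClass.coe_finsetSum]
    refine Finset.sum_congr rfl fun i _ => ?_
    simp only [Matrix.diag_apply, Algebra.leftMulMatrix_eq_repr_mul]
    rw [← hrepr (w' * b i) i, hbK]; rfl
  refine ⟨by rw [htr]; exact (Algebra.trace P.O (Bring hK P K') w').2, fun hlt => ?_⟩
  obtain ⟨t, ht⟩ := exists_val P (-1)
  have ht1 : P.1 t ≤ 1 := by rw [ht, ← exp_zero, exp_le_exp]; omega
  let t' : P.O := ⟨t, ht1⟩
  set N := ∑ Q ∈ placesOver hK K' P, ramIdx Q P with hN
  have ht0 := ne_zero_of_val P ht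
  let u : Bring hK P K' := ⟨(algebraMap K K' t)⁻¹ * w ^ N, fun Q hQ => by
    have hQ' := (mem_placesOver hK).1 hQ
    have hle : ramIdx Q P ≤ N :=
      Finset.single_le_sum (f := fun R => ramIdx R P) (fun R _ => Nat.zero_le _) hQ
    rw [map_mul, map_inv₀, map_pow, isOverWith_of_isOver hQ', ht, ← exp_nsmul, ← exp_neg]
    refine (mul_le_mul' le_rfl (pow_le_pow_left' ((lt_one_iff_le Q).1 (hlt Q hQ')) N)).trans ?_
    rw [← exp_nsmul, ← exp_add, ← exp_zero, exp_le_exp]
    simp only [smul_neg, neg_neg, nsmul_eq_mul, mul_one]; omega⟩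
  have hpow : w' ^ N = t' • u := Subtype.ext (by
    rw [Subalgebra.coe_pow, Subalgebra.coe_smul, Algebra.smul_def]
    show w ^ N = algebraMap K K' t * ((algebraMap K K' t)⁻¹ * w ^ N)
    rw [← mul_assoc, mul_inv_cancel₀ ((map_ne_zero _).2 ht0), one_mul])
  set M := Algebra.leftMulMatrix b w' with hM
  have hM' : (M.map (residue P.O)) ^ N = 0 := by
    rw [← RingHom.mapMatrix_apply, ← map_pow, hM, ← map_pow, hpow, map_smul, RingHom.mapMatrix_apply]
    ext i j
    rw [Matrix.map_apply, Matrix.smul_apply, smul_eq_mul, map_mul]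
    have : residue P.O t' = 0 := (resL_eq_zero P ⟨t, ht1⟩).2 (by
      show P.1 t < 1
      rw [ht, ← exp_zero, exp_lt_exp]; omega)
    rw [this, zero_mul]; rfl
  have h0 : residue P.O (Algebra.trace P.O (Bring hK P K') w') = 0 := by
    rw [Algebra.trace_eq_matrix_trace b, ← hM, show residue P.O M.trace = (M.map (residue P.O)).trace from map_sum (residue P.O) _ _]
    exact IsNilpotent.eq_zero (Matrix.isNilpotent_trace_of_isNilpotent ⟨N, hM'⟩)
  rw [htr]
  exact (resL_eq_zero P ⟨_, (Algebra.trace P.O (Bring hK P K') w').2⟩).1 h0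

section Disc
variable {ι : Type*} [Fintype ι] [DecidableEq ι] (b : Module.Basis ι K K') (P : Place k K)
  (hb : ∀ Q : Place k K', IsOver Q P → ∀ i, Q.1 (b i) ≤ 1)
  (hdet : P.1 (Algebra.traceMatrix K b).det = 1)
include hb hdet

theorem coeff_of_disc {z : K'} (hz : ∀ Q : Place k K', IsOver Q P → Q.1 z ≤ 1) :
    (∀ i, P.1 (b.repr z i) ≤ 1) ∧
    ((∀ Q : Place k K', IsOver Q P → Q.1 z < 1) → ∀ i, P.1 (b.repr z i) < 1) := by
  set T := Algebra.traceMatrix K b with hT
  let T₀ : Matrix ι ι P.O := fun i j => ⟨T i j, (val_trace (w := b i * b j) hK P fun Q hQ => by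
    rw [map_mul]; exact mul_le_one' (hb Q hQ i) (hb Q hQ j)).1⟩
  have hT₀ : T₀.map P.O.subtype = T := rfl
  let v₀ : ι → P.O := fun i => ⟨Algebra.trace K K' (b i * z), (val_trace hK P fun Q hQ => by
    rw [map_mul]; exact mul_le_one' (hb Q hQ i) (hz Q hQ)).1⟩
  have hv : ∀ i, (v₀ i : K) = (T.mulVec fun j => b.repr z j) i := fun i => by
    show Algebra.trace K K' (b i * z) = ∑ j, T i j * b.repr z j
    conv_lhs => rw [← b.sum_repr z, Finset.mul_sum, map_sum]
    refine Finset.sum_congr rfl fun j _ => ?_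
    rw [mul_smul_comm, map_smul, smul_eq_mul, mul_comm]; rfl
  have hc : ∀ i, T.det * b.repr z i = ((T₀.adjugate.mulVec v₀) i : P.O) := fun i => by
    rw [show (((T₀.adjugate.mulVec v₀) i : P.O) : K) =
      ((T₀.adjugate.map P.O.subtype).mulVec fun j => (v₀ j : K)) i from RingHom.map_mulVec P.O.subtype _ _ i]
    rw [funext hv, ← RingHom.mapMatrix_apply, RingHom.map_adjugate, RingHom.mapMatrix_apply, hT₀,
      Matrix.mulVec_mulVec, Matrix.adjugate_mul, Matrix.smul_mulVec, Matrix.one_mulVec, Pi.smul_apply,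
      smul_eq_mul]
  have hP : ∀ i, P.1 (b.repr z i) = P.1 ((T₀.adjugate.mulVec v₀) i : K) := fun i => by
    rw [← hc, map_mul, hdet, one_mul]
  refine ⟨fun i => (hP i).trans_le ((T₀.adjugate.mulVec v₀) i).2, fun hlt i => ?_⟩
  rw [hP, Matrix.mulVec, dotProduct, AddSubmonoidClass.coe_finsetSum]
  refine Valuation.map_sum_lt _ one_ne_zero fun j _ => ?_
  rw [MulMemClass.coe_mul, map_mul]
  exact (mul_le_mul' (T₀.adjugate i j).2 le_rfl).trans_lt (by
    rw [one_mul]
    exact (val_trace hK P fun Q hQ => by rw [map_mul]; exact mul_le_one' (hb Q hQ j) (hz Q hQ)).2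
      fun Q hQ => by rw [map_mul]; exact (mul_le_mul' (hb Q hQ j) le_rfl).trans_lt (by rw [one_mul]; exact hlt Q hQ))

theorem unramified_of_disc {Q : Place k K'} (hQ : IsOver Q P) : IsOverWith Q P 1 := by
  classical
  have he := isOverWith_of_isOver hQ
  set e := ramIdx Q P with he_def
  suffices h : e = 1 by rwa [h] at he
  by_contra hne
  have hpos := IsOverWith.pos he
  obtain ⟨a, ha⟩ := exists_val Q (-((e : ℤ) - 1))
  obtain ⟨w, hw⟩ := exists_approx (placesOver hK K' P) (fun R => if R = Q then a else 0) (-(e : ℤ))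
  have hwQ : Q.1 w = exp (-((e : ℤ) - 1)) := by
    have h := hw Q ((mem_placesOver hK).2 hQ)
    rw [if_pos rfl] at h
    rw [← ha]
    refine Valuation.map_eq_of_sub_lt _ (h.trans_lt ?_)
    rw [ha, exp_lt_exp]; omega
  have hlt : ∀ R : Place k K', IsOver R P → R.1 w < 1 := fun R hR => by
    by_cases hRQ : R = Q
    · rw [hRQ, hwQ, ← exp_zero, exp_lt_exp]; omega
    · have h := hw R ((mem_placesOver hK).2 hR)
      rw [if_neg hRQ, sub_zero] at h
      refine h.trans_lt ?_
      rw [← exp_zero, exp_lt_exp]; omega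
  have hc := (coeff_of_disc hK b P hb hdet fun R hR => (hlt R hR).le).2 hlt
  have : Q.1 w ≤ exp (-(e : ℤ)) := by
    rw [← b.sum_repr w]
    refine Valuation.map_sum_le _ fun i _ => ?_
    rw [Algebra.smul_def, map_mul, he]
    refine (mul_le_mul' (pow_le_pow_left' ((lt_one_iff_le P).1 (hc i)) e) (hb Q hQ i)).trans ?_
    rw [mul_one, ← exp_nsmul, exp_le_exp]; simp
  rw [hwQ, exp_le_exp] at this
  omega

end Disc

/-- Almost all places of a separable extension are unramified. -/
theorem finite_ramified [Algebra.IsSeparable K K'] :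
    {Q : Place k K' | ¬ Function.Surjective (Q.1.comap (algebraMap K K'))}.Finite := by
  classical
  let b := Module.finBasis K K'
  have key : ∀ Q : Place k K', (∀ P : Place k K, IsOver Q P →
      P.1 (Algebra.traceMatrix K b).det = 1 ∧ ∀ R : Place k K', IsOver R P → ∀ i, R.1 (b i) ≤ 1) →
      Function.Surjective (Q.1.comap (algebraMap K K')) := by
    intro Q h z
    obtain ⟨P, hQP⟩ := exists_below (K := K) Q
    obtain ⟨hdet, hb⟩ := h P hQP
    have he := unramified_of_disc hK b P hb hdet hQP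
    obtain ⟨x, hx⟩ := P.2.2 z
    exact ⟨x, by rw [Valuation.comap_apply, he x, pow_one, hx]⟩
  have hdet0 : (Algebra.traceMatrix K b).det ≠ 0 := by
    rw [Algebra.traceMatrix_of_basis]; exact det_traceForm_ne_zero b
  have hbad : {P : Place k K | P.1 (Algebra.traceMatrix K b).det ≠ 1 ∨
      ∃ R : Place k K', IsOver R P ∧ ∃ i, 1 < R.1 (b i)}.Finite := by
    rw [Set.setOf_or]
    refine Set.Finite.union ((finite_support hK (Algebra.traceMatrix K b).det).subset fun P hP => ?_) ?_
    · show P.ord _ ≠ 0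
      intro h0
      exact hP (by rw [val_eq_exp P hdet0, h0, neg_zero, WithZero.exp_zero])
    · have hR : {R : Place k K' | ∃ i, 1 < R.1 (b i)}.Finite := by
        rw [Set.setOf_exists]
        refine Set.finite_iUnion fun i => (finite_support' hK (b i)).subset fun R hR => ?_
        show R.ord _ ≠ 0
        intro h0
        rw [Set.mem_setOf_eq, val_eq_exp R (b.ne_zero i), h0, neg_zero, WithZero.exp_zero] at hR
        exact lt_irrefl _ hR
      refine ((hR.biUnion fun R _ => (Set.Subsingleton.finite (s := {P : Place k K | IsOver R P})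
        fun P ⟨e, he⟩ P' ⟨e', he'⟩ => (IsOverWith.unique he he').1))).subset fun P ⟨R, hR, hi⟩ => ?_
      exact Set.mem_biUnion (show R ∈ {R : Place k K' | ∃ i, 1 < R.1 (b i)} from hi) hR
  refine (hbad.biUnion fun P _ => finite_over (K' := K') hK P).subset fun Q hQ => ?_
  obtain ⟨P, hP⟩ : ∃ P : Place k K, IsOver Q P ∧ (P.1 (Algebra.traceMatrix K b).det ≠ 1 ∨
      ∃ R : Place k K', IsOver R P ∧ ∃ i, 1 < R.1 (b i)) := by
    by_contra hc
    push Not at hc
    exact hQ (key Q fun P hP => ⟨(hc P hP).1, fun R hR i => (hc P hP).2 R hR i⟩)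
  exact Set.mem_biUnion (show P ∈ {P : Place k K | _} from hP.2) hP.1

end Groth.Agent.FunFld
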