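import Groth.Agent.FunFld.Ext.Below
import Mathlib.FieldTheory.IntermediateField.Adjoin.Algebra
import Mathlib.RingTheory.Valuation.Integral

/-! The constant field of a finite extension, and degrees with respect to it. -/

namespace Groth.Agent.FunFld

open _root_.FunFld WithZero IsLocalRing IntermediateField

variable {k K K' : Type*} [Field k] [Field K] [Field K'] [Algebra k K] [Algebra K K'] [Algebra k K']
  [IsScalarTower k K K'] [FiniteDimensional K K']

section

variable (hK : IsFunctionField k K)
include hK

theorem exists_transcendental :
    ∃ x : K', Transcendental k x ∧ FiniteDimensional (IntermediateField.adjoin k ({x} : Set K')) K' := by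
  obtain ⟨⟨x, hx, hfin⟩, -⟩ := hK
  refine ⟨algebraMap K K' x, (transcendental_algebraMap_iff (algebraMap K K').injective).2 hx, ?_⟩
  set L := IntermediateField.adjoin k ({x} : Set K)
  set L' := IntermediateField.adjoin k ({algebraMap K K' x} : Set K')
  have hmap : L.map (IsScalarTower.toAlgHom k K K') = L' := by
    rw [IntermediateField.adjoin_map, Set.image_singleton]; rfl
  haveI : Module.Finite L K' := Module.Finite.trans K K'
  let e : L ≃ₐ[k] L' := (L.equivMap (IsScalarTower.toAlgHom k K K')).trans (IntermediateField.equivOfEq hmap)
  exact Module.Finite.of_equiv_equiv e.toRingEquiv (RingEquiv.refl K') (RingHom.ext fun z => rfl)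

theorem finrank_adjoin_algebraMap (x : K) :
    Module.finrank (IntermediateField.adjoin k ({algebraMap K K' x} : Set K')) K' =
      Module.finrank (IntermediateField.adjoin k ({x} : Set K)) K * Module.finrank K K' := by
  set L := IntermediateField.adjoin k ({x} : Set K)
  set L' := IntermediateField.adjoin k ({algebraMap K K' x} : Set K')
  have hmap : L.map (IsScalarTower.toAlgHom k K K') = L' := by
    rw [IntermediateField.adjoin_map, Set.image_singleton]; rfl
  let e : L ≃ₐ[k] L' := (L.equivMap (IsScalarTower.toAlgHom k K K')).trans (IntermediateField.equivOfEq hmap)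
  rw [← Algebra.finrank_eq_of_equiv_equiv e.toRingEquiv (RingEquiv.refl K') (RingHom.ext fun z => rfl),
    Module.finrank_mul_finrank]

theorem finite_algebraicClosure : FiniteDimensional k (algebraicClosure k K') := by
  classical
  obtain ⟨x, hx, hfin⟩ := exists_transcendental (K' := K') hK
  refine Module.rank_lt_aleph0_iff.1 ((rank_le fun s hs => ?_).trans_lt
    (Cardinal.natCast_lt_aleph0 (n := Module.finrank (IntermediateField.adjoin k ({x} : Set K')) K')))
  have hxc : Transcendental (algebraicClosure k K') x := fun h => hx (isIntegral_trans x h.isIntegral).isAlgebraic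
  have hlin : LinearIndependent (IntermediateField.adjoin k ({x} : Set K')) fun a : s => ((a : algebraicClosure k K') : K') := by
    refine linearIndependent_adjoin hx _ fun c g hcg => ?_
    have h0 : ∑ a : s, c a • (a : algebraicClosure k K') = 0 := by
      by_contra hne
      refine hxc ⟨Polynomial.C (∑ a : s, c a • (a : algebraicClosure k K')) + Polynomial.X *
        ∑ a : s, (g a).map (algebraMap k (algebraicClosure k K')) * Polynomial.C (a : algebraicClosure k K'), ?_, ?_⟩
      · intro h
        have := congrArg (fun p => Polynomial.coeff p 0) h
        simp only [Polynomial.coeff_add, Polynomial.coeff_C_zero, Polynomial.coeff_zero,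
          Polynomial.mul_coeff_zero, Polynomial.coeff_X_zero, zero_mul, add_zero] at this
        exact hne this
      · rw [map_add, map_mul, Polynomial.aeval_C, Polynomial.aeval_X, map_sum, map_sum]
        simp only [map_mul, Polynomial.aeval_C, Polynomial.aeval_map_algebraMap]
        rw [← hcg]
        congr 1
    exact funext (Fintype.linearIndependent_iff.1 hs c h0)
  simpa using hlin.fintype_card_le_finrank

theorem isFunctionField_algebraicClosure : IsFunctionField (algebraicClosure k K') K' := by
  obtain ⟨x, hx, hfin⟩ := exists_transcendental (K' := K') hK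
  haveI := finite_algebraicClosure (K' := K') hK
  refine ⟨⟨x, fun h => hx (isIntegral_trans x h.isIntegral).isAlgebraic, ?_⟩, fun y hy => ⟨⟨y, ?_⟩, rfl⟩⟩
  · have hle : IntermediateField.adjoin k ({x} : Set K') ≤
        (IntermediateField.adjoin (algebraicClosure k K') ({x} : Set K')).restrictScalars k :=
      IntermediateField.adjoin_simple_le_iff.2
        (IntermediateField.mem_adjoin_simple_self (algebraicClosure k K') x)
    letI : Algebra (IntermediateField.adjoin k ({x} : Set K'))
        (IntermediateField.adjoin (algebraicClosure k K') ({x} : Set K')) :=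
      (IntermediateField.inclusion hle).toRingHom.toAlgebra
    haveI : IsScalarTower (IntermediateField.adjoin k ({x} : Set K'))
        (IntermediateField.adjoin (algebraicClosure k K') ({x} : Set K')) K' :=
      IsScalarTower.of_algebraMap_eq fun _ => rfl
    exact Module.Finite.of_restrictScalars_finite (IntermediateField.adjoin k ({x} : Set K')) _ _
  · exact mem_algebraicClosure_iff.2 (isIntegral_trans y hy.isIntegral).isAlgebraic

/-- Degrees over `k(x)` and over `k''(x)`. -/
theorem finrank_adjoin_const {x : K'} (hx : Transcendental k x) :
    Module.finrank (IntermediateField.adjoin k ({x} : Set K')) K' =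
      Module.finrank k (algebraicClosure k K') *
        Module.finrank (IntermediateField.adjoin (algebraicClosure k K') ({x} : Set K')) K' := by
  classical
  haveI := finite_algebraicClosure (K' := K') hK
  set C := algebraicClosure k K'
  set L := IntermediateField.adjoin k ({x} : Set K')
  set E := IntermediateField.adjoin L (C : Set K') with hE
  have halg : ∀ z ∈ (C : Set K'), IsAlgebraic L z := fun z hz =>
    ((mem_algebraicClosure_iff.1 hz).isIntegral.tower_top).isAlgebraic
  have hxc : Transcendental C x := fun h => hx (isIntegral_trans x h.isIntegral).isAlgebraic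
  let b := Module.finBasis k C
  have hlin : LinearIndependent L fun a => ((b a : C) : K') := by
    refine linearIndependent_adjoin hx _ fun c g hcg => ?_
    have h0 : ∑ a, c a • b a = 0 := by
      by_contra hne
      refine hxc ⟨Polynomial.C (∑ a, c a • b a) + Polynomial.X *
        ∑ a, (g a).map (algebraMap k C) * Polynomial.C (b a), ?_, ?_⟩
      · intro h
        have := congrArg (fun p => Polynomial.coeff p 0) h
        simp only [Polynomial.coeff_add, Polynomial.coeff_C_zero, Polynomial.coeff_zero,
          Polynomial.mul_coeff_zero, Polynomial.coeff_X_zero, zero_mul, add_zero] at this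
        exact hne this
      · rw [map_add, map_mul, Polynomial.aeval_C, Polynomial.aeval_X, map_sum, map_sum]
        simp only [map_mul, Polynomial.aeval_C, Polynomial.aeval_map_algebraMap]
        rw [← hcg]
        congr 1
    exact funext (Fintype.linearIndependent_iff.1 b.linearIndependent c h0)
  have hcl : Submonoid.closure (C : Set K') = C.toSubalgebra.toSubsemiring.toSubmonoid := Submonoid.closure_eq _
  have hspan : Subalgebra.toSubmodule E.toSubalgebra = Submodule.span L (Set.range fun a => ((b a : C) : K')) := by
    rw [hE, adjoin_toSubalgebra_of_isAlgebraic halg, Algebra.adjoin_eq_span, hcl]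
    refine le_antisymm (Submodule.span_le.2 fun z hz => ?_) (Submodule.span_mono ?_)
    · have hz' : z = ((∑ a, b.repr ⟨z, hz⟩ a • b a : C) : K') := by rw [b.sum_repr]
      rw [hz', AddSubmonoidClass.coe_finsetSum]
      refine sum_mem fun a _ => ?_
      rw [show ((b.repr ⟨z, hz⟩ a • b a : C) : K') = algebraMap k L (b.repr ⟨z, hz⟩ a) • ((b a : C) : K') by
        rw [algebraMap_smul]; rfl]
      exact Submodule.smul_mem _ _ (Submodule.subset_span ⟨a, rfl⟩)
    · rintro _ ⟨a, rfl⟩; exact (b a).2
  have hrank : Module.finrank L E = Module.finrank k C := by
    show Module.finrank L (Subalgebra.toSubmodule E.toSubalgebra) = _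
    rw [hspan, finrank_span_eq_card hlin, Fintype.card_fin]
  have heq : (E.restrictScalars k) = (IntermediateField.adjoin C ({x} : Set K')).restrictScalars k := by
    refine le_antisymm ?_ ?_
    · intro z hz
      refine IntermediateField.adjoin_induction L (p := fun y _ => y ∈ IntermediateField.adjoin C ({x} : Set K'))
        ?_ ?_ (fun _ _ _ _ => add_mem) (fun _ _ => inv_mem) (fun _ _ _ _ => mul_mem) hz
      · exact fun y hy => IntermediateField.algebraMap_mem _ (⟨y, hy⟩ : C)
      · intro l
        refine (show L ≤ (IntermediateField.adjoin C ({x} : Set K')).restrictScalars k from ?_) l.2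
        exact IntermediateField.adjoin_simple_le_iff.2 (IntermediateField.mem_adjoin_simple_self C x)
    · intro z hz
      refine IntermediateField.adjoin_induction C (p := fun y _ => y ∈ E) ?_ ?_
        (fun _ _ _ _ => add_mem) (fun _ _ => inv_mem) (fun _ _ _ _ => mul_mem) hz
      · intro y hy
        rw [Set.mem_singleton_iff.1 hy]
        exact IntermediateField.algebraMap_mem E (⟨x, IntermediateField.mem_adjoin_simple_self k x⟩ : L)
      · exact fun c => IntermediateField.subset_adjoin L _ c.2
  have h2 : Module.finrank E K' = Module.finrank (IntermediateField.adjoin C ({x} : Set K')) K' := by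
    show Module.finrank (E.restrictScalars k) K' =
      Module.finrank ((IntermediateField.adjoin C ({x} : Set K')).restrictScalars k) K'
    rw [heq]
  rw [← Module.finrank_mul_finrank L E K', hrank, h2]

end

/-- A place of `K'` over `k` is a place over any field of algebraic elements. -/
noncomputable def upPlace (C : IntermediateField k K') [Algebra.IsAlgebraic k C] (Q : Place k K') :
    Place C K' :=
  ⟨Q.1, fun c => by
    have hc : IsIntegral k (c : K') := (Algebra.IsAlgebraic.isAlgebraic c).isIntegral.map C.val
    have hO : IsIntegral Q.O (c : K') := by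
      haveI : IsScalarTower k Q.O K' := IsScalarTower.of_algebraMap_eq fun _ => rfl
      exact hc.tower_top
    exact (Valuation.integer.integers Q.1).mem_of_integral hO, Q.2.2⟩

/-- The inverse of `upPlace`. -/
noncomputable def downPlace (C : IntermediateField k K') (Q : Place C K') : Place k K' :=
  ⟨Q.1, fun c => Q.2.1 (algebraMap k C c), Q.2.2⟩

theorem upPlace_downPlace (C : IntermediateField k K') [Algebra.IsAlgebraic k C] (Q : Place C K') :
    upPlace C (downPlace C Q) = Q := Subtype.ext rfl

theorem deg_upPlace (C : IntermediateField k K') [Algebra.IsAlgebraic k C] (Q : Place k K') :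
    Q.deg = Module.finrank k C * (upPlace C Q).deg := by
  let R := ResidueField (upPlace C Q).O
  let iK : Algebra k R := Place.algRes Q
  let iC : Algebra C R := Place.algRes (upPlace C Q)
  have hT : @IsScalarTower k C R Algebra.toSMul iC.toSMul iK.toSMul :=
    IsScalarTower.of_algebraMap_eq fun _ => rfl
  exact (@Module.finrank_mul_finrank k C R _ _ _ _ iC.toModule iK.toModule hT _ _ _ _).symm

variable (hK : IsFunctionField k K)
include hK

theorem residue_finite' (Q : Place k K') : FiniteDimensional k (ResidueField Q.O) := by
  haveI := finite_algebraicClosure (K' := K') hK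
  have := deg_pos (isFunctionField_algebraicClosure (K' := K') hK) (upPlace (algebraicClosure k K') Q)
  have h2 := deg_upPlace (algebraicClosure k K') Q
  exact Module.finite_of_finrank_pos (show 0 < Q.deg by rw [h2]; exact Nat.mul_pos Module.finrank_pos this)

theorem deg_pos' (Q : Place k K') : 0 < Q.deg := by
  haveI := residue_finite' hK Q
  exact Module.finrank_pos

theorem finite_support' (x : K') : (Function.support fun Q : Place k K' => Q.ord x).Finite := by
  haveI := finite_algebraicClosure (K' := K') hK
  exact ((finite_support (isFunctionField_algebraicClosure (K' := K') hK) x).preimage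
    (f := upPlace (algebraicClosure k K')) (fun a _ b _ h =>
      Subtype.ext (congrArg (fun R : Place (algebraicClosure k K') K' => R.1) h))).subset fun Q hQ => hQ

theorem div_apply' (x : K') (Q : Place k K') : div k x Q = Q.ord x := by
  rw [_root_.FunFld.div, dif_pos (finite_support' hK x)]; rfl

/-- The degree of the zeros of a transcendental element of `K'`. -/
theorem sum_zeros' {x : K'} (hx : Transcendental k x) (s : Finset (Place k K'))
    (hs : ∀ Q, Q ∈ s ↔ 0 < Q.ord x) :
    ∑ Q ∈ s, Q.ord x * (Q.deg : ℤ) =
      Module.finrank (IntermediateField.adjoin k ({x} : Set K')) K' := by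
  classical
  haveI := finite_algebraicClosure (K' := K') hK
  have hC := isFunctionField_algebraicClosure (K' := K') hK
  set C := algebraicClosure k K'
  have hxc : Transcendental C x := fun h => hx (isIntegral_trans x h.isIntegral).isAlgebraic
  rw [finrank_adjoin_const hK hx, Nat.cast_mul, ← zeros_sum hC hxc, Finset.mul_sum]
  refine Finset.sum_bij (fun Q _ => upPlace C Q) (fun Q hQ => ?_) (fun a _ b _ h =>
    Subtype.ext (congrArg (fun R : Place C K' => R.1) h)) (fun R hR => ?_) (fun Q _ => ?_)
  · rw [Finset.mem_filter, Finsupp.mem_support_iff, div_apply hC]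
    exact ⟨ne_of_gt ((hs Q).1 hQ), (hs Q).1 hQ⟩
  · rw [Finset.mem_filter, div_apply hC] at hR
    exact ⟨downPlace C R, (hs _).2 hR.2, upPlace_downPlace C R⟩
  · rw [div_apply hC, deg_upPlace C Q]
    show Q.ord x * _ = _ * (Q.ord x * _)
    push_cast; ring

theorem deg_div' (x : K') : (div k x : Divisor k K').deg = 0 := by
  classical
  haveI := finite_algebraicClosure (K' := K') hK
  have hC := isFunctionField_algebraicClosure (K' := K') hK
  set C := algebraicClosure k K'
  have h0 := deg_div hC x
  have : (div k x : Divisor k K').deg = (Module.finrank k C : ℤ) * (div C x : Divisor C K').deg := by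
    rw [Divisor.deg, Divisor.deg, Finsupp.sum, Finsupp.sum, Finset.mul_sum]
    refine Finset.sum_bij (fun Q _ => upPlace C Q) (fun Q hQ => ?_) (fun a _ b _ h =>
      Subtype.ext (congrArg (fun R : Place C K' => R.1) h)) (fun R hR => ?_) (fun Q _ => ?_)
    · rw [Finsupp.mem_support_iff, div_apply hC]
      rw [Finsupp.mem_support_iff, div_apply' hK] at hQ
      exact hQ
    · rw [Finsupp.mem_support_iff, div_apply hC] at hR
      exact ⟨downPlace C R, by rw [Finsupp.mem_support_iff, div_apply' hK]; exact hR, upPlace_downPlace C R⟩
    · rw [div_apply hC, div_apply' hK, deg_upPlace C Q]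
      show Q.ord x * _ = _ * (Q.ord x * _)
      push_cast; ring
  rw [this, h0, mul_zero]

end Groth.Agent.FunFld
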