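import Groth.Agent.FunFld.Ext.Disc
import Mathlib.LinearAlgebra.Matrix.NonsingularInverse

/-! Ramification in quadratic extensions of function fields. -/

namespace Groth.Agent.FunFld

open _root_.FunFld WithZero IsLocalRing

variable {k K K' : Type*} [Field k] [Field K] [Field K'] [Algebra k K] [Algebra K K'] [Algebra k K']
  [IsScalarTower k K K'] [FiniteDimensional K K'] (hK : IsFunctionField k K)
include hK

theorem deg_le_of_isOver {Q : Place k K'} {P : Place k K} (h : IsOver Q P) : P.deg ≤ Q.deg := by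
  haveI := residue_finite' (K' := K') hK Q
  let incl : intK P →ₗ[k] intK Q :=
    { toFun := fun x => ⟨algebraMap K K' x, (val_le_one_iff h (x : K)).2 x.2⟩
      map_add' := fun a b => Subtype.ext (map_add (algebraMap K K') (a : K) b)
      map_smul' := fun c a => Subtype.ext (by
        simp [Algebra.smul_def, ← IsScalarTower.algebraMap_apply]) }
  let g := (resL Q).comp incl
  have hker : LinearMap.ker g = LinearMap.ker (resL P) := by
    ext x
    rw [LinearMap.mem_ker, LinearMap.mem_ker, resL_eq_zero, LinearMap.comp_apply, resL_eq_zero]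
    exact val_lt_one_iff h (x : K)
  have e := ((resL P).quotKerEquivOfSurjective (resL_surjective P)).finrank_eq
  rw [← hker, g.quotKerEquivRange.finrank_eq] at e
  exact e.symm.trans_le (Submodule.finrank_le _)

theorem tot_ram (h2 : Module.finrank K K' = 2) {P : Place k K}
    (h : ∀ Q : Place k K', IsOver Q P → 2 ∣ ramIdx Q P) :
    (∃! Q : Place k K', IsOver Q P) ∧
      ∀ Q : Place k K', IsOver Q P → IsOverWith Q P 2 ∧ Q.deg = P.deg := by
  classical
  have hsum := sum_ramIdx_mul_deg (K' := K') hK P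
  rw [h2] at hsum
  have hP := deg_pos hK P
  have hterm : ∀ Q ∈ placesOver hK K' P, 2 * P.deg ≤ ramIdx Q P * Q.deg := fun Q hQ => by
    have hQ' := (mem_placesOver hK).1 hQ
    exact Nat.mul_le_mul (Nat.le_of_dvd (IsOverWith.pos (isOverWith_of_isOver hQ')) (h Q hQ'))
      (deg_le_of_isOver hK hQ')
  obtain ⟨Q₀, hQ₀⟩ := exists_over (K' := K') hK P
  have huniq : ∀ Q, IsOver Q P → Q = Q₀ := fun Q hQ => by
    by_contra hne
    have h1 : ∑ R ∈ ({Q, Q₀} : Finset (Place k K')), ramIdx R P * R.deg ≤ 2 * P.deg := by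
      rw [← hsum]
      exact Finset.sum_le_sum_of_subset (by
        intro R hR
        rw [Finset.mem_insert, Finset.mem_singleton] at hR
        rw [mem_placesOver hK]
        rcases hR with rfl | rfl <;> assumption)
    rw [Finset.sum_pair hne] at h1
    have := hterm Q ((mem_placesOver hK).2 hQ)
    have := hterm Q₀ ((mem_placesOver hK).2 hQ₀)
    omega
  refine ⟨⟨Q₀, hQ₀, huniq⟩, fun Q hQ => ?_⟩
  obtain rfl := huniq Q hQ
  rw [Finset.sum_eq_single Q (fun R hR hne => absurd (huniq R ((mem_placesOver hK).1 hR)) hne)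
    (fun hn => absurd ((mem_placesOver hK).2 hQ) hn)] at hsum
  have he := isOverWith_of_isOver hQ
  have hd := deg_le_of_isOver hK hQ
  have he2 := Nat.le_of_dvd (IsOverWith.pos he) (h Q hQ)
  have he3 : ramIdx Q P = 2 := by
    by_contra hne
    have : 3 * P.deg ≤ ramIdx Q P * Q.deg := Nat.mul_le_mul (by omega) hd
    omega
  rw [he3] at hsum he
  exact ⟨he, by omega⟩

omit hK in
theorem two_dvd_of_sq {Q : Place k K'} {P : Place k K} (hQ : IsOver Q P) {y : K'} {F : K}
    (hy : y ^ 2 = algebraMap K K' F) (hF : Odd (P.ord F)) : 2 ∣ ramIdx Q P := by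
  have h := congrArg Q.ord hy
  rw [ord_pow, IsOverWith.ord (isOverWith_of_isOver hQ)] at h
  obtain ⟨m, hm⟩ := hF
  have h2 : (2 : ℤ) ∣ (ramIdx Q P : ℤ) := ⟨Q.ord y - (ramIdx Q P : ℤ) * m, by
    rw [hm] at h; push_cast at h; linarith [mul_sub (2 : ℤ) (Q.ord y) ((ramIdx Q P : ℤ) * m)]⟩
  exact_mod_cast h2

omit hK in
theorem two_dvd_of_as {Q : Place k K'} {P : Place k K} (hQ : IsOver Q P) {y : K'} {F : K}
    (hy : y ^ 2 + y = algebraMap K K' F) (hneg : P.ord F < 0) (hF : Odd (P.ord F)) :
    2 ∣ ramIdx Q P := by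
  have he := isOverWith_of_isOver hQ
  have hgt : 1 < Q.1 y := by
    by_contra hc
    rw [not_lt] at hc
    have h1 : Q.1 (algebraMap K K' F) ≤ 1 := by
      rw [← hy]
      exact (Q.1.map_add _ _).trans (max_le (by rw [map_pow]; exact pow_le_one' hc 2) hc)
    have hF0 : F ≠ 0 := fun e => by rw [e, ord_zero] at hneg; omega
    have h2 := (ord_nonneg_iff Q ((map_ne_zero (algebraMap K K')).2 hF0)).2 h1
    rw [IsOverWith.ord he] at h2
    have := IsOverWith.pos he
    nlinarith
  have hsq : Q.1 (y ^ 2 + y) = Q.1 (y ^ 2) := by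
    refine Valuation.map_add_eq_of_lt_left _ ?_
    rw [map_pow, pow_two]
    calc Q.1 y = 1 * Q.1 y := (one_mul _).symm
      _ < Q.1 y * Q.1 y := mul_lt_mul_of_pos_right hgt (zero_lt_one.trans hgt)
  have h : Q.ord (algebraMap K K' F) = 2 * Q.ord y := by
    rw [← hy]
    show -log (Q.1 (y ^ 2 + y)) = 2 * Q.ord y
    rw [hsq]
    have := ord_pow Q y 2
    push_cast at this
    exact this
  rw [IsOverWith.ord he] at h
  obtain ⟨m, hm⟩ := hF
  have h2 : (2 : ℤ) ∣ (ramIdx Q P : ℤ) := ⟨Q.ord y - (ramIdx Q P : ℤ) * m, by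
    rw [hm] at h; linarith [mul_sub (2 : ℤ) (Q.ord y) ((ramIdx Q P : ℤ) * m)]⟩
  exact_mod_cast h2


omit hK [FiniteDimensional K K'] in
theorem linearIndependent_one_y {y : K'} (hy : y ∉ Set.range (algebraMap K K')) :
    LinearIndependent K ![(1 : K'), y] := by
  rw [LinearIndependent.pair_iff]
  intro s t h
  by_cases ht : t = 0
  · subst ht
    exact ⟨by simpa using h, rfl⟩
  · refine absurd ⟨-s / t, ?_⟩ hy
    rw [Algebra.smul_def, Algebra.smul_def, mul_one] at h
    rw [map_div₀, map_neg, div_eq_iff ((map_ne_zero _).2 ht)]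
    linear_combination -h

theorem disc_basis (h2 : Module.finrank K K' = 2) {P : Place k K} {y : K'}
    (hy : y ∉ Set.range (algebraMap K K')) {c d : K}
    (heq : y * y = algebraMap K K' c + algebraMap K K' d * y) (hc : P.1 c ≤ 1) (hd : P.1 d ≤ 1)
    (hdisc : P.1 (4 * c + d * d) = 1) : ∃ b : Module.Basis (Fin 2) K K', b 0 = 1 ∧ b 1 = y ∧
      (∀ R : Place k K', IsOver R P → ∀ i, R.1 (b i) ≤ 1) ∧ P.1 (Algebra.traceMatrix K b).det = 1 := by
  classical
  have hli := linearIndependent_one_y (K := K) hy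
  let b : Module.Basis (Fin 2) K K' := basisOfLinearIndependentOfCardEqFinrank hli (by simp [h2])
  have hb : ∀ i, b i = ![(1 : K'), y] i := fun i => by simp [b]
  have h00 : b 0 = 1 := by rw [hb]; rfl
  have h11 : b 1 = y := by rw [hb]; rfl
  have htr1 : Algebra.trace K K' (1 : K') = 2 := by
    rw [← map_one (algebraMap K K'), Algebra.trace_algebraMap, h2, nsmul_eq_mul, mul_one]; norm_num
  have htry : Algebra.trace K K' y = d := by
    rw [Algebra.trace_eq_matrix_trace b, Matrix.trace, Fin.sum_univ_two]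
    simp only [Matrix.diag_apply, Algebra.leftMulMatrix_eq_repr_mul]
    have e1 : y * y = c • b 0 + d • b 1 := by rw [h00, h11, Algebra.smul_def, Algebra.smul_def, mul_one, heq]
    rw [h00, h11, mul_one, e1]
    conv_lhs => arg 1; rw [← h11]
    rw [map_add, map_smul, map_smul, Finsupp.add_apply, Finsupp.smul_apply, Finsupp.smul_apply,
      b.repr_self, b.repr_self]
    simp
  have htryy : Algebra.trace K K' (y * y) = 2 * c + d * d := by
    rw [heq, map_add, Algebra.trace_algebraMap, h2, ← Algebra.smul_def, map_smul, htry, smul_eq_mul,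
      nsmul_eq_mul, Nat.cast_ofNat]
  refine ⟨b, h00, h11, fun R hR i => ?_, ?_⟩
  · fin_cases i
    · show R.1 (b 0) ≤ 1
      rw [h00, map_one]
    · show R.1 (b 1) ≤ 1
      rw [h11]
      by_contra hgt
      rw [not_le] at hgt
      have h1 : R.1 (y * y) ≤ R.1 y := by
        rw [heq]
        refine (R.1.map_add _ _).trans (max_le (((val_le_one_iff hR c).2 hc).trans hgt.le) ?_)
        rw [map_mul]
        exact (mul_le_mul' ((val_le_one_iff hR d).2 hd) le_rfl).trans_eq (one_mul _)
      rw [map_mul] at h1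
      exact absurd h1 (not_le.2 (by
        calc R.1 y = 1 * R.1 y := (one_mul _).symm
          _ < R.1 y * R.1 y := mul_lt_mul_of_pos_right hgt (zero_lt_one.trans hgt)))
  · rw [Matrix.det_fin_two]
    simp only [Algebra.traceMatrix_apply, Algebra.traceForm_apply, h00, h11, mul_one, one_mul, htr1, htry, htryy]
    rw [show (2 : K) * (2 * c + d * d) - d * d = 4 * c + d * d by ring]
    exact hdisc


/-- `y² = c + d y` with integral `c`, `d` and unit discriminant: no ramification. -/
theorem unramified_quadratic (h2 : Module.finrank K K' = 2) {P : Place k K} {y : K'}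
    (hy : y ∉ Set.range (algebraMap K K')) {c d : K}
    (heq : y * y = algebraMap K K' c + algebraMap K K' d * y) (hc : P.1 c ≤ 1) (hd : P.1 d ≤ 1)
    (hdisc : P.1 (4 * c + d * d) = 1) {Q : Place k K'} (hQ : IsOver Q P) : IsOverWith Q P 1 := by
  obtain ⟨b, -, -, hb, hdet⟩ := disc_basis hK h2 hy heq hc hd hdisc
  exact unramified_of_disc hK b P hb hdet hQ

end Groth.Agent.FunFld
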