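import Groth.Agent.FunFld.Extra
import Groth.Prelude.Def_W4bk4goldsch23Ext
import Mathlib.GroupTheory.Archimedean
import Mathlib.FieldTheory.AlgebraicClosure
import Mathlib.RingTheory.Algebraic.Integral

/-! Finite extensions: the place below a place, the constant field of the extension. -/

namespace Groth.Agent.FunFld

open _root_.FunFld WithZero

theorem pow_left_injective_wz {n : ℕ} (hn : n ≠ 0) :
    Function.Injective fun w : WithZero (Multiplicative ℤ) => w ^ n := fun a b h => by
  rcases lt_trichotomy a b with hl | hl | hl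
  · exact absurd h (pow_lt_pow_left₀ hl zero_le hn).ne
  · exact hl
  · exact absurd h (pow_lt_pow_left₀ hl zero_le hn).ne'

variable {k K K' : Type*} [Field k] [Field K] [Field K'] [Algebra k K] [Algebra K K'] [Algebra k K']

theorem IsOverWith.pos {Q : Place k K'} {P : Place k K} {e : ℕ} (h : IsOverWith Q P e) : 0 < e := by
  obtain ⟨t, ht⟩ := exists_val P 1
  rcases Nat.eq_zero_or_pos e with rfl | he
  · exfalso
    have h1 := h 0
    simp at h1
  · exact he

theorem IsOverWith.ord {Q : Place k K'} {P : Place k K} {e : ℕ} (h : IsOverWith Q P e) (x : K) :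
    Q.ord (algebraMap K K' x) = e * P.ord x := by
  rcases eq_or_ne x 0 with rfl | hx
  · simp [ord_zero]
  have h1 : Q.1 (algebraMap K K' x) = exp (-((e : ℤ) * P.ord x)) := by
    rw [h x, val_eq_exp P hx, ← exp_nsmul, nsmul_eq_mul, mul_neg]
  rw [ord_eq_of_val Q h1, neg_neg]

theorem IsOverWith.unique {Q : Place k K'} {P P' : Place k K} {e e' : ℕ} (h : IsOverWith Q P e)
    (h' : IsOverWith Q P' e') : P = P' ∧ e = e' := by
  have hP : P = P' := eq_of_le fun x hx => by
    have h1 : P.1 x ^ e ≤ 1 := pow_le_one' hx e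
    rw [← h x, h' x] at h1
    exact (pow_le_one_iff (IsOverWith.pos h').ne').1 h1
  subst hP
  refine ⟨rfl, ?_⟩
  obtain ⟨t, ht⟩ := exists_val P 1
  have h1 := IsOverWith.ord h t
  rw [IsOverWith.ord h' t, ord_eq_of_val P ht] at h1
  omega

theorem ramIdx_eq {Q : Place k K'} {P : Place k K} {e : ℕ} (h : IsOverWith Q P e) : ramIdx Q P = e := by
  classical
  have hex : IsOver Q P := ⟨e, h⟩
  rw [ramIdx, dif_pos hex]
  exact (IsOverWith.unique (Nat.find_spec hex) h).2

theorem isOverWith_of_isOver {Q : Place k K'} {P : Place k K} (h : IsOver Q P) :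
    IsOverWith Q P (ramIdx Q P) := by
  obtain ⟨e, he⟩ := h
  rw [ramIdx_eq he]; exact he

variable [IsScalarTower k K K']

/-- A place of a finite extension lies over a unique place. -/
theorem exists_below [FiniteDimensional K K'] (Q : Place k K') : ∃ P : Place k K, IsOver Q P := by
  classical
  let G : AddSubgroup ℤ :=
    { carrier := Set.range fun x : Kˣ => Q.ord (algebraMap K K' (x : K))
      add_mem' := by
        rintro _ _ ⟨x, rfl⟩ ⟨y, rfl⟩
        exact ⟨x * y, by simp only [Units.val_mul, map_mul]; exact ord_mul Q ((map_ne_zero _).2 x.ne_zero) ((map_ne_zero _).2 y.ne_zero)⟩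
      zero_mem' := ⟨1, by
        simp only [Units.val_one, map_one]
        rw [← map_one (algebraMap k K'), ord_algebraMap]⟩
      neg_mem' := by
        rintro _ ⟨x, rfl⟩
        exact ⟨x⁻¹, by simp only [Units.val_inv_eq_inv_val, map_inv₀]; exact ord_inv Q _⟩ }
  obtain ⟨a, ha⟩ := Int.subgroup_cyclic G
  -- the valuation is not trivial on `K`
  have ha0 : a ≠ 0 := by
    rintro rfl
    obtain ⟨z, hz⟩ := exists_val Q 1
    have hint : IsIntegral K z := IsIntegral.of_finite K z
    have h0 : ∀ c : K, Q.1 (algebraMap K K' c) ≤ 1 := fun c => by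
      rcases eq_or_ne c 0 with rfl | hc
      · simp
      refine (ord_nonneg_iff Q ((map_ne_zero _).2 hc)).1 (le_of_eq ?_)
      have : Q.ord (algebraMap K K' c) ∈ G := ⟨Units.mk0 c hc, rfl⟩
      rw [ha, AddSubgroup.mem_closure_singleton] at this
      obtain ⟨n, hn⟩ := this
      simpa using hn
    have hlt : (1 : WithZero (Multiplicative ℤ)) < Q.1 z := by rw [hz, ← exp_zero, exp_lt_exp]; omega
    obtain ⟨p, hp, hpz⟩ := hint
    rw [← Polynomial.aeval_def, Polynomial.aeval_eq_sum_range, Finset.sum_range_succ,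
      hp.coeff_natDegree, one_smul] at hpz
    set m := p.natDegree
    have hsum : Q.1 (∑ i ∈ Finset.range m, p.coeff i • z ^ i) < Q.1 (z ^ m) := by
      rw [map_pow]
      rcases Nat.eq_zero_or_pos m with hm | hm
      · simp [hm]
      refine lt_of_le_of_lt (b := Q.1 z ^ (m - 1)) (Valuation.map_sum_le _ fun i hi => ?_)
        (pow_lt_pow_right₀ hlt (by omega))
      rw [Algebra.smul_def, map_mul, map_pow]
      exact (mul_le_mul' (h0 _) le_rfl).trans_eq (one_mul _) |>.trans
        (pow_le_pow_right₀ hlt.le (by have := Finset.mem_range.1 hi; omega))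
    have := Valuation.map_add_eq_of_lt_right Q.1 hsum
    rw [hpz, map_zero] at this
    exact absurd this.symm ((pow_ne_zero _ ((ne_of_gt (lt_trans zero_lt_one hlt)))) ∘ fun e => by rwa [map_pow] at e)
  set e := a.natAbs with he
  have he0 : 0 < e := Int.natAbs_pos.2 ha0
  have hdiv : ∀ x : K, (e : ℤ) ∣ Q.ord (algebraMap K K' x) := fun x => by
    rcases eq_or_ne x 0 with rfl | hx
    · simp [ord_zero]
    have : Q.ord (algebraMap K K' x) ∈ G := ⟨Units.mk0 x hx, rfl⟩
    rw [ha, AddSubgroup.mem_closure_singleton] at this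
    obtain ⟨n, hn⟩ := this
    rw [← hn, he, Int.natAbs_dvd, smul_eq_mul]
    exact dvd_mul_left a n
  let v : K → WithZero (Multiplicative ℤ) := fun x =>
    if x = 0 then 0 else exp (-(Q.ord (algebraMap K K' x) / e))
  have hv : ∀ x, v x ^ e = Q.1 (algebraMap K K' x) := fun x => by
    rcases eq_or_ne x 0 with rfl | hx
    · simp [v, he0.ne']
    rw [show v x = exp (-(Q.ord (algebraMap K K' x) / e)) from if_neg hx,
      val_eq_exp Q ((map_ne_zero _).2 hx), ← exp_nsmul, nsmul_eq_mul, mul_neg,
      Int.mul_ediv_cancel' (hdiv x)]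
  have hinj : Function.Injective fun w : WithZero (Multiplicative ℤ) => w ^ e :=
    pow_left_injective_wz he0.ne'
  let V : Valuation K (WithZero (Multiplicative ℤ)) :=
    { toFun := v
      map_zero' := if_pos rfl
      map_one' := hinj (by simp only [hv, map_one, one_pow])
      map_mul' := fun x y => hinj (by simp only [hv, mul_pow, map_mul])
      map_add_le_max' := fun x y => le_of_pow_le_pow_left₀ he0.ne' zero_le (by
        rw [hv, (pow_left_mono e).map_max, hv, hv, map_add]
        exact Q.1.map_add _ _) }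
  have hVk : ∀ c : k, V (algebraMap k K c) ≤ 1 := fun c => (pow_le_one_iff he0.ne').1 (by
    show v _ ^ e ≤ 1
    rw [hv, ← IsScalarTower.algebraMap_apply]; exact Q.2.1 c)
  have hsurj : Function.Surjective V := by
    intro w
    rcases eq_or_ne w 0 with rfl | hw
    · exact ⟨0, map_zero V⟩
    have : -(log w) * e ∈ G := by
      rw [ha, AddSubgroup.mem_closure_singleton]
      rcases Int.natAbs_eq a with h | h
      · exact ⟨-log w, by rw [smul_eq_mul]; conv_lhs => rw [h]⟩
      · refine ⟨log w, ?_⟩
        rw [smul_eq_mul]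
        conv_lhs => rw [h]
        rw [he]; ring
    obtain ⟨x, hx⟩ := this
    refine ⟨x, hinj ?_⟩
    show v x ^ e = w ^ e
    simp only at hx
    rw [hv, val_eq_exp Q ((map_ne_zero _).2 x.ne_zero), hx]
    conv_rhs => rw [← exp_log hw, ← exp_nsmul, nsmul_eq_mul]
    congr 1; ring
  exact ⟨⟨V, hVk, hsurj⟩, e, fun x => (hv x).symm⟩

end Groth.Agent.FunFld
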