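import Groth.Agent.FunFld.Ext.Const

/-! The fundamental identity `∑ e(Q|P) deg Q = [K':K] deg P` and the conorm. -/

namespace Groth.Agent.FunFld

open _root_.FunFld WithZero IsLocalRing Finset

variable {k K K' : Type*} [Field k] [Field K] [Field K'] [Algebra k K] [Algebra K K'] [Algebra k K']
  [IsScalarTower k K K'] [FiniteDimensional K K']

theorem val_lt_one_iff {Q : Place k K'} {P : Place k K} (h : IsOver Q P) (x : K) :
    Q.1 (algebraMap K K' x) < 1 ↔ P.1 x < 1 := by
  have he := isOverWith_of_isOver h
  rw [he x, pow_lt_one_iff (IsOverWith.pos he).ne']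

theorem val_le_one_iff {Q : Place k K'} {P : Place k K} (h : IsOver Q P) (x : K) :
    Q.1 (algebraMap K K' x) ≤ 1 ↔ P.1 x ≤ 1 := by
  have he := isOverWith_of_isOver h
  rw [he x, pow_le_one_iff (IsOverWith.pos he).ne']

/-- An element whose only zero is `P`. -/
theorem exists_single_zero (hK : IsFunctionField k K) (P : Place k K) :
    ∃ x : K, 0 < P.ord x ∧ ∀ R, R ≠ P → R.ord x ≤ 0 := by
  have hd : (1 : ℤ) ≤ P.deg := by exact_mod_cast deg_pos hK P
  set D : Divisor k K := Finsupp.single P ((2 * genus k K + 1 : ℕ) : ℤ) with hD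
  have hdeg : (2 * genus k K + 1 : ℤ) ≤ D.deg := by rw [hD, deg_single]; push_cast; nlinarith
  have hl := ell_eq_of_deg_ge hK (D := D) (by omega)
  have hne : ¬ L D ≤ L (0 : Divisor k K) := fun h => by
    have := L_finite hK (0 : Divisor k K)
    have h1 : ell D ≤ ell (0 : Divisor k K) := Submodule.finrank_mono h
    rw [ell_zero hK] at h1
    omega
  obtain ⟨y, hy, hy'⟩ := SetLike.not_le_iff_exists.1 hne
  have hy0 : y ≠ 0 := fun e => hy' (e ▸ zero_mem _)
  have hR : ∀ R, R ≠ P → 0 ≤ R.ord y := fun R hR => by
    have := hy R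
    rw [le_exp_iff R hy0, hD, Finsupp.single_eq_of_ne hR] at this
    omega
  refine ⟨y⁻¹, ?_, fun R h => by rw [ord_inv]; have := hR R h; omega⟩
  rw [ord_inv]
  by_contra h
  refine hy' fun R => ?_
  rw [le_exp_iff R hy0, Finsupp.coe_zero, Pi.zero_apply]
  rcases eq_or_ne R P with rfl | hne
  · omega
  · have := hR R hne; omega

variable (hK : IsFunctionField k K)
include hK

theorem finite_over (P : Place k K) : {Q : Place k K' | IsOver Q P}.Finite := by
  obtain ⟨x, hx, -⟩ := exists_single_zero hK P
  refine (finite_support' hK (algebraMap K K' x)).subset fun Q hQ => ?_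
  have he := isOverWith_of_isOver (hQ : IsOver Q P)
  show Q.ord _ ≠ 0
  rw [IsOverWith.ord he]
  have : (0 : ℤ) < ramIdx Q P := by exact_mod_cast IsOverWith.pos he
  positivity

/-- The places over `P`. -/
noncomputable def placesOver (K' : Type*) [Field K'] [Algebra K K'] [Algebra k K'] [IsScalarTower k K K']
    [FiniteDimensional K K'] (P : Place k K) : Finset (Place k K') := (finite_over hK P).toFinset

theorem mem_placesOver {P : Place k K} {Q : Place k K'} : Q ∈ placesOver hK K' P ↔ IsOver Q P :=
  Set.Finite.mem_toFinset _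

/-- The fundamental identity. -/
theorem sum_ramIdx_mul_deg (P : Place k K) :
    ∑ Q ∈ placesOver hK K' P, ramIdx Q P * Q.deg = Module.finrank K K' * P.deg := by
  classical
  obtain ⟨x, hx, hothers⟩ := exists_single_zero hK P
  have hx0 : x ≠ 0 := fun e => by rw [e, ord_zero] at hx; omega
  have htr : Transcendental k x := mem_range_of_ord hK hx.ne'
  have htr' : Transcendental k (algebraMap K K' x) :=
    (transcendental_algebraMap_iff (algebraMap K K').injective).2 htr
  have hset : ∀ Q : Place k K', Q ∈ placesOver hK K' P ↔ 0 < Q.ord (algebraMap K K' x) := by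
    intro Q
    obtain ⟨R, e, he⟩ := exists_below (K := K) Q
    rw [mem_placesOver, IsOverWith.ord he]
    have he0 : (0 : ℤ) < e := by exact_mod_cast IsOverWith.pos he
    constructor
    · rintro ⟨e', he'⟩
      obtain ⟨rfl, rfl⟩ := IsOverWith.unique he he'
      positivity
    · intro h
      have hR : R = P := by
        by_contra hne
        have := hothers R hne
        nlinarith
      exact hR ▸ ⟨e, he⟩
  have h1 := sum_zeros' hK htr' (placesOver hK K' P) hset
  rw [finrank_adjoin_algebraMap hK] at h1
  have h2 := sum_zeros' (K' := K) hK htr {P} fun R => by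
    rw [Finset.mem_singleton]
    exact ⟨fun e => e ▸ hx, fun h => by_contra fun hne => absurd (hothers R hne) (not_le.2 h)⟩
  rw [Finset.sum_singleton] at h2
  have h3 : ∑ Q ∈ placesOver hK K' P, Q.ord (algebraMap K K' x) * (Q.deg : ℤ) =
      P.ord x * ∑ Q ∈ placesOver hK K' P, ((ramIdx Q P * Q.deg : ℕ) : ℤ) := by
    rw [Finset.mul_sum]
    refine Finset.sum_congr rfl fun Q hQ => ?_
    rw [IsOverWith.ord (isOverWith_of_isOver ((mem_placesOver hK).1 hQ))]
    push_cast; ring
  rw [h3, Nat.cast_mul, ← h2, ← Nat.cast_sum] at h1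
  have : ((∑ Q ∈ placesOver hK K' P, ramIdx Q P * Q.deg : ℕ) : ℤ) =
      ((Module.finrank K K' * P.deg : ℕ) : ℤ) := by
    refine mul_left_cancel₀ hx.ne' ?_
    rw [h1]; push_cast; ring
  exact_mod_cast this

theorem exists_over (P : Place k K) : ∃ Q : Place k K', IsOver Q P := by
  by_contra h
  push Not at h
  have := sum_ramIdx_mul_deg (K' := K') hK P
  rw [Finset.sum_eq_zero fun Q hQ => absurd ((mem_placesOver hK).1 hQ) (h Q)] at this
  exact (Nat.mul_pos Module.finrank_pos (deg_pos hK P)).ne this

omit hK in
theorem conorm_apply_of_finite {F F' : Type*} [Field F] [Field F'] [Algebra k F] [Algebra F F'] [Algebra k F']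
    (hfin : ∀ P : Place k F, {Q : Place k F' | IsOver Q P}.Finite) (D : Divisor k F) {Q : Place k F'} {P : Place k F} {e : ℕ} (h : IsOverWith Q P e) :
    conorm F' D Q = (e : ℤ) * D P := by
  classical
  rw [conorm, Finsupp.sum, Finsupp.finsetSum_apply]
  have key : ∀ R : Place k F, (D R • (if h : {Q : Place k F' | IsOver Q R}.Finite then
      h.toFinset.sum (fun Q => (ramIdx Q R : ℤ) • Finsupp.single Q 1) else 0 : Divisor k F')) Q =
      if R = P then (e : ℤ) * D P else 0 := by
    intro R
    rw [dif_pos (hfin R), Finsupp.smul_apply, Finsupp.finsetSum_apply]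
    split_ifs with hR
    · subst hR
      rw [Finset.sum_eq_single Q (fun S _ hS => by
          rw [Finsupp.smul_apply, Finsupp.single_eq_of_ne hS.symm, smul_zero])
        (fun hQ => absurd ((hfin R).mem_toFinset.2 ⟨e, h⟩) hQ)]
      rw [Finsupp.smul_apply, Finsupp.single_eq_same, ramIdx_eq h, smul_eq_mul, smul_eq_mul, mul_one, mul_comm]
    · rw [Finset.sum_eq_zero fun S hS => ?_, smul_zero]
      rw [Finsupp.smul_apply, Finsupp.single_eq_of_ne, smul_zero]
      rintro rfl
      exact hR (IsOverWith.unique (isOverWith_of_isOver ((hfin R).mem_toFinset.1 hS)) h).1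
  rw [Finset.sum_congr rfl fun R _ => key R, Finset.sum_ite_eq']
  split_ifs with hP
  · rfl
  · rw [Finsupp.notMem_support_iff.1 hP, mul_zero]

theorem conorm_apply (D : Divisor k K) {Q : Place k K'} {P : Place k K} {e : ℕ} (h : IsOverWith Q P e) :
    conorm K' D Q = (e : ℤ) * D P :=
  conorm_apply_of_finite (finite_over hK) D h

theorem conorm_conorm {K'' : Type*} [Field K''] [Algebra k K''] [Algebra K' K''] [Algebra K K'']
    [IsScalarTower k K' K''] [IsScalarTower K K' K''] [FiniteDimensional K' K''] (D : Divisor k K) :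
    conorm K'' (conorm K' D) = conorm K'' D := by
  haveI : IsScalarTower k K K'' := IsScalarTower.of_algebraMap_eq fun c => by
    rw [IsScalarTower.algebraMap_apply k K' K'', IsScalarTower.algebraMap_apply k K K',
      ← IsScalarTower.algebraMap_apply K K' K'']
  haveI : FiniteDimensional K K'' := Module.Finite.trans K' K''
  have hfin : ∀ Q : Place k K', {R : Place k K'' | IsOver R Q}.Finite := fun Q => by
    obtain ⟨t, ht⟩ := exists_val Q 1
    refine (finite_support' (K := K) hK (algebraMap K' K'' t)).subset fun R hR => ?_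
    have he := isOverWith_of_isOver (hR : IsOver R Q)
    show R.ord _ ≠ 0
    rw [IsOverWith.ord he, ord_eq_of_val Q ht]
    have := IsOverWith.pos he
    omega
  refine Finsupp.ext fun R => ?_
  obtain ⟨Q, e, he⟩ := exists_below (K := K') R
  obtain ⟨P, e', he'⟩ := exists_below (K := K) Q
  have h3 : IsOverWith R P (e' * e) := fun x => by
    rw [IsScalarTower.algebraMap_apply K K' K'', he, he', pow_mul]
  rw [conorm_apply_of_finite hfin _ he, conorm_apply hK D he', conorm_apply (K' := K'') hK D h3]
  push_cast; ring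

theorem conorm_zero : conorm K' (0 : Divisor k K) = 0 := by
  rw [conorm, Finsupp.sum_zero_index]

theorem conorm_add (D E : Divisor k K) : conorm K' (D + E) = (conorm K' D + conorm K' E : Divisor k K') := by
  refine Finsupp.ext fun Q => ?_
  obtain ⟨P, e, he⟩ := exists_below (K := K) Q
  rw [Finsupp.add_apply, conorm_apply hK _ he, conorm_apply hK _ he, conorm_apply hK _ he,
    Finsupp.add_apply, mul_add]

theorem deg_conorm (D : Divisor k K) : (conorm K' D).deg = Module.finrank K K' * D.deg := by
  classical
  induction D using Finsupp.induction_linear with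
  | zero => rw [conorm_zero hK, deg_zero, deg_zero, mul_zero]
  | add D E hD hE => rw [conorm_add hK, deg_add, hD, hE, deg_add, mul_add]
  | single P n =>
    have e : conorm K' (Finsupp.single P n) =
        ∑ Q ∈ placesOver hK K' P, Finsupp.single Q ((ramIdx Q P : ℤ) * n) := by
      refine Finsupp.ext fun Q => ?_
      obtain ⟨R, e, he⟩ := exists_below (K := K) Q
      rw [conorm_apply hK _ he, Finsupp.finsetSum_apply]
      rcases eq_or_ne R P with rfl | hne
      · rw [Finset.sum_eq_single Q (fun S _ hS => Finsupp.single_eq_of_ne hS.symm)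
          (fun hQ => absurd ((mem_placesOver hK).2 ⟨e, he⟩) hQ), Finsupp.single_eq_same,
          Finsupp.single_eq_same, ramIdx_eq he]
      · rw [Finsupp.single_eq_of_ne hne, mul_zero, Finset.sum_eq_zero fun S hS => ?_]
        rw [Finsupp.single_eq_of_ne]
        rintro rfl
        exact hne (IsOverWith.unique he (isOverWith_of_isOver ((mem_placesOver hK).1 hS))).1
    have hsum : ∀ (s : Finset (Place k K')) (f : Place k K' → ℤ),
        Divisor.deg (∑ Q ∈ s, Finsupp.single Q (f Q)) = ∑ Q ∈ s, f Q * Q.deg := by
      intro s f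
      induction s using Finset.induction_on with
      | empty => simp [deg_zero]
      | insert a s ha ih => rw [Finset.sum_insert ha, Finset.sum_insert ha, deg_add, deg_single, ih]
    rw [e, hsum, deg_single, ← mul_assoc, mul_comm _ n, mul_assoc, ← Nat.cast_mul,
      ← sum_ramIdx_mul_deg hK P, Nat.cast_sum, Finset.mul_sum]
    exact Finset.sum_congr rfl fun Q _ => by push_cast; ring

theorem div_algebraMap (x : K) : div k (algebraMap K K' x) = conorm K' (div k x : Divisor k K) := by
  refine Finsupp.ext fun Q => ?_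
  obtain ⟨P, e, he⟩ := exists_below (K := K) Q
  rw [div_apply' hK, conorm_apply hK _ he, div_apply hK, IsOverWith.ord he]

end Groth.Agent.FunFld
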