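import Groth.Agent.FunFld.Ext.Fundamental
import Mathlib.FieldTheory.Galois.Basic
import Mathlib.RingTheory.Norm.Basic
import Mathlib.RingTheory.Norm.Transitivity
import Mathlib.RingTheory.Valuation.RamificationGroup
import Mathlib.GroupTheory.GroupAction.Quotient

/-! Places in a finite Galois extension. -/

namespace Groth.Agent.FunFld

open _root_.FunFld WithZero IsLocalRing Finset
open scoped Pointwise

variable {k K K' : Type*} [Field k] [Field K] [Field K'] [Algebra k K] [Algebra K K'] [Algebra k K']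
  [IsScalarTower k K K']

/-- The place `Q ∘ σ`. -/
noncomputable def conjPlace (Q : Place k K') (σ : K' ≃ₐ[K] K') : Place k K' :=
  ⟨Q.1.comap (σ : K' →+* K'), fun c => by
      rw [Valuation.comap_apply]
      show Q.1 (σ (algebraMap k K' c)) ≤ 1
      rw [IsScalarTower.algebraMap_apply k K K', σ.commutes, ← IsScalarTower.algebraMap_apply]
      exact Q.2.1 c,
    fun w => by
      obtain ⟨y, hy⟩ := Q.2.2 w
      exact ⟨σ.symm y, by show Q.1 (σ (σ.symm y)) = w; rw [σ.apply_symm_apply]; exact hy⟩⟩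

theorem conjPlace_apply (Q : Place k K') (σ : K' ≃ₐ[K] K') (x : K') : (conjPlace Q σ).1 x = Q.1 (σ x) := rfl

theorem isOverWith_conjPlace {Q : Place k K'} {P : Place k K} {e : ℕ} (h : IsOverWith Q P e)
    (σ : K' ≃ₐ[K] K') : IsOverWith (conjPlace Q σ) P e := fun x => by
  rw [conjPlace_apply, σ.commutes]; exact h x

theorem deg_conjPlace (Q : Place k K') (σ : K' ≃ₐ[K] K') : (conjPlace Q σ).deg = Q.deg := by
  let f : (conjPlace Q σ).O ≃+* Q.O :=
    { toFun := fun x => ⟨σ (x : K'), x.2⟩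
      invFun := fun x => ⟨σ.symm (x : K'), by show Q.1 (σ (σ.symm (x : K'))) ≤ 1; rw [σ.apply_symm_apply]; exact x.2⟩
      left_inv := fun x => Subtype.ext (σ.symm_apply_apply _)
      right_inv := fun x => Subtype.ext (σ.apply_symm_apply _)
      map_mul' := fun x y => Subtype.ext (map_mul σ _ _)
      map_add' := fun x y => Subtype.ext (map_add σ _ _) }
  let e := IsLocalRing.ResidueField.mapEquiv f
  let eA : ResidueField (conjPlace Q σ).O ≃ₐ[k] ResidueField Q.O := AlgEquiv.ofRingEquiv (f := e) fun c => by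
    show residue Q.O (f (algebraMap k (conjPlace Q σ).O c)) = residue Q.O (algebraMap k Q.O c)
    congr 1
    refine Subtype.ext ?_
    show σ (algebraMap k K' c) = algebraMap k K' c
    rw [IsScalarTower.algebraMap_apply k K K', σ.commutes]
  exact eA.toLinearEquiv.finrank_eq

theorem mem_smul_O_iff (Q : Place k K') (σ : K' ≃ₐ[K] K') (x : K') :
    x ∈ (σ • Q.O : ValuationSubring K') ↔ x ∈ (conjPlace Q σ⁻¹).O := by
  rw [ValuationSubring.mem_pointwise_smul_iff_inv_smul_mem]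
  exact Iff.rfl

variable [FiniteDimensional K K'] (hK : IsFunctionField k K)

theorem exists_conjPlace_eq [IsGalois K K'] {Q₁ Q₂ : Place k K'} {P : Place k K} (h₁ : IsOver Q₁ P)
    (h₂ : IsOver Q₂ P) : ∃ σ : K' ≃ₐ[K] K', conjPlace Q₁ σ = Q₂ := by
  classical
  by_contra hne
  push Not at hne
  let O₁ := Finset.univ.image fun σ : K' ≃ₐ[K] K' => conjPlace Q₁ σ
  let O₂ := Finset.univ.image fun σ : K' ≃ₐ[K] K' => conjPlace Q₂ σ
  have hdisj : ∀ Q ∈ O₂, Q ∉ O₁ := by
    intro Q hQ hQ'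
    simp only [O₁, O₂, Finset.mem_image, Finset.mem_univ, true_and] at hQ hQ'
    obtain ⟨τ, rfl⟩ := hQ
    obtain ⟨σ, hσ⟩ := hQ'
    refine hne (σ * τ⁻¹) (Subtype.ext (Valuation.ext fun y => ?_))
    have := congrArg (fun R : Place k K' => R.1 (τ⁻¹ y)) hσ
    simp only [conjPlace_apply] at this
    rw [show τ (τ⁻¹ y) = y from τ.apply_symm_apply y] at this
    exact this
  obtain ⟨x, hx⟩ := exists_approx (O₁ ∪ O₂) (fun Q => if Q ∈ O₁ then 1 else 0) (-1)
  have hm1 : (exp (-1) : WithZero (Multiplicative ℤ)) < 1 := by rw [← exp_zero, exp_lt_exp]; omega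
  have hx2 : ∀ σ : K' ≃ₐ[K] K', Q₂.1 (σ x) < 1 := fun σ => by
    have hmem : conjPlace Q₂ σ ∈ O₂ := Finset.mem_image_of_mem _ (Finset.mem_univ σ)
    have := hx _ (Finset.mem_union_right _ hmem)
    rw [if_neg (hdisj _ hmem), sub_zero, conjPlace_apply] at this
    exact this.trans_lt hm1
  have hx1 : ∀ σ : K' ≃ₐ[K] K', Q₁.1 (σ x) = 1 := fun σ => by
    have hmem : conjPlace Q₁ σ ∈ O₁ := Finset.mem_image_of_mem _ (Finset.mem_univ σ)
    have := hx _ (Finset.mem_union_left _ hmem)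
    rw [if_pos hmem] at this
    rw [← conjPlace_apply, ← sub_add_cancel x 1,
      Valuation.map_add_eq_of_lt_right _ (by rw [map_one]; exact this.trans_lt hm1), map_one]
  have hN1 : Q₁.1 (algebraMap K K' (Algebra.norm K x)) = 1 := by
    rw [Algebra.norm_eq_prod_automorphisms, map_prod]
    exact Finset.prod_eq_one fun σ _ => hx1 σ
  have hN2 : Q₂.1 (algebraMap K K' (Algebra.norm K x)) < 1 := by
    rw [Algebra.norm_eq_prod_automorphisms, map_prod, ← Finset.mul_prod_erase _ _ (Finset.mem_univ (1 : K' ≃ₐ[K] K'))]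
    refine lt_of_le_of_lt (mul_le_mul' le_rfl (Finset.prod_le_one' fun σ _ => (hx2 σ).le)) ?_
    rw [mul_one]; exact hx2 1
  rw [val_lt_one_iff h₂, ← val_lt_one_iff h₁, hN1] at hN2
  exact lt_irrefl _ hN2

theorem decomposition_eq [IsGalois K K'] (Q : Place k K') (σ : K' ≃ₐ[K] K') :
    σ ∈ Q.O.decompositionSubgroup K ↔ conjPlace Q σ⁻¹ = Q := by
  rw [MulAction.mem_stabilizer_iff]
  constructor
  · intro h
    refine eq_of_le fun x hx => ?_
    have := (mem_smul_O_iff Q σ x).2 hx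
    rw [h] at this
    exact this
  · intro h
    ext x
    rw [mem_smul_O_iff, h]

include hK in
/-- Orbit counting for places over `P`. -/
theorem galois_counts [IsGalois K K'] {Q : Place k K'} {P : Place k K} {e : ℕ} (he : IsOverWith Q P e) :
    (∀ Q' : Place k K', IsOver Q' P → IsOverWith Q' P e ∧ Q'.deg = Q.deg) ∧
    Nat.card {Q' : Place k K' // IsOver Q' P} * Nat.card (Q.O.decompositionSubgroup K) = Module.finrank K K' ∧
    Nat.card (Q.O.decompositionSubgroup K) * P.deg = e * Q.deg := by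
  classical
  have hsame : ∀ Q' : Place k K', IsOver Q' P → IsOverWith Q' P e ∧ Q'.deg = Q.deg := fun Q' hQ' => by
    obtain ⟨σ, rfl⟩ := exists_conjPlace_eq ⟨e, he⟩ hQ'
    exact ⟨isOverWith_conjPlace he σ, deg_conjPlace Q σ⟩
  let f : MulAction.orbit (K' ≃ₐ[K] K') Q.O ≃ {Q' : Place k K' // IsOver Q' P} := by
    refine (Equiv.ofBijective (fun Q' : {Q' : Place k K' // IsOver Q' P} =>
      (⟨Q'.1.O, ?_⟩ : MulAction.orbit (K' ≃ₐ[K] K') Q.O)) ⟨?_, ?_⟩).symm
    · obtain ⟨σ, hσ⟩ := exists_conjPlace_eq ⟨e, he⟩ Q'.2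
      refine ⟨σ⁻¹, SetLike.ext fun x => ?_⟩
      show x ∈ σ⁻¹ • Q.O ↔ _
      rw [mem_smul_O_iff, inv_inv, hσ]
    · intro A B h
      have h' : A.1.O = B.1.O := congrArg Subtype.val h
      exact Subtype.ext (eq_of_le fun x hx => (h' ▸ (hx : x ∈ A.1.O) : x ∈ B.1.O))
    · rintro ⟨_, σ, rfl⟩
      refine ⟨⟨conjPlace Q σ⁻¹, e, isOverWith_conjPlace he σ⁻¹⟩, Subtype.ext (SetLike.ext fun x => ?_)⟩
      show x ∈ (conjPlace Q σ⁻¹).O ↔ x ∈ σ • Q.O
      rw [mem_smul_O_iff]
  have hg : Nat.card {Q' : Place k K' // IsOver Q' P} * Nat.card (Q.O.decompositionSubgroup K) =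
      Module.finrank K K' := by
    rw [← Nat.card_congr f, ← IsGalois.card_aut_eq_finrank K K', ← Nat.card_prod]
    exact Nat.card_congr (MulAction.orbitProdStabilizerEquivGroup _ _)
  refine ⟨hsame, hg, ?_⟩
  have hsum := sum_ramIdx_mul_deg (K' := K') hK P
  rw [Finset.sum_eq_card_nsmul (b := e * Q.deg) (fun Q' hQ' => by
    obtain ⟨h1, h2⟩ := hsame Q' ((mem_placesOver hK).1 hQ')
    rw [ramIdx_eq h1, h2]), smul_eq_mul, ← hg] at hsum
  have hc : (placesOver hK K' P).card = Nat.card {Q' : Place k K' // IsOver Q' P} :=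
    (Nat.card_eq_card_finite_toFinset (finite_over hK P)).symm
  rw [hc, mul_assoc] at hsum
  have hpos : 0 < Nat.card {Q' : Place k K' // IsOver Q' P} := by
    rw [← hc]; exact Finset.card_pos.2 ⟨Q, (mem_placesOver hK).2 ⟨e, he⟩⟩
  exact (Nat.eq_of_mul_eq_mul_left hpos hsum).symm

end Groth.Agent.FunFld
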