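import Groth.Agent.FunFld.Ext.Fundamental
import Mathlib.LinearAlgebra.FreeModule.Norm
import Mathlib.RingTheory.Norm.Basic
import Mathlib.RingTheory.DiscreteValuationRing.Basic
import Mathlib.RingTheory.Valuation.Discrete.Basic

/-! The semilocal ring of a finite set of places; the integral closure of a place. -/

namespace Groth.Agent.FunFld

open _root_.FunFld WithZero IsLocalRing Finset

section

variable {k K : Type*} [Field k] [Field K] [Algebra k K]

/-- Functions `x` with `ord_Q x ≥ m Q` on `s`. -/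
def Ls (s : Finset (Place k K)) (m : Place k K → ℕ) : Submodule k K where
  carrier := {x | ∀ Q ∈ s, Q.1 x ≤ exp (-(m Q : ℤ))}
  add_mem' {x y} hx hy Q hQ := (Q.1.map_add x y).trans (max_le (hx Q hQ) (hy Q hQ))
  zero_mem' Q _ := by simp
  smul_mem' c x hx Q hQ := (val_smul_le Q c x).trans (hx Q hQ)

theorem mem_Ls {s : Finset (Place k K)} {m : Place k K → ℕ} {x : K} :
    x ∈ Ls s m ↔ ∀ Q ∈ s, Q.1 x ≤ exp (-(m Q : ℤ)) := Iff.rfl

theorem mem_Ls_zero {s : Finset (Place k K)} {x : K} : x ∈ Ls s 0 ↔ ∀ Q ∈ s, Q.1 x ≤ 1 := by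
  simp [mem_Ls]

theorem Ls_idx (s : Finset (Place k K)) (hres : ∀ Q ∈ s, FiniteDimensional k (ResidueField Q.O)) :
    ∀ m : Place k K → ℕ, HasIdx (Ls s m) (Ls s 0) (∑ Q ∈ s, (m Q : ℤ) * Q.deg) := by
  classical
  intro m
  induction hN : ∑ Q ∈ s, m Q using Nat.strong_induction_on generalizing m with
  | _ N ih =>
    by_cases h0 : ∀ Q ∈ s, m Q = 0
    · have e : Ls s m = Ls s 0 := by
        ext x; simp only [mem_Ls, Pi.zero_apply]
        exact forall₂_congr fun Q hQ => by rw [h0 Q hQ]
      rw [e, Finset.sum_eq_zero fun Q hQ => by rw [h0 Q hQ]; simp]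
      exact HasIdx.refl _
    push Not at h0
    obtain ⟨P, hP, hmP⟩ := h0
    let m' : Place k K → ℕ := Function.update m P (m P - 1)
    have hlt : ∑ Q ∈ s, m' Q < N := hN ▸ Finset.sum_lt_sum (fun Q _ => by
      rcases eq_or_ne Q P with rfl | h
      · simp [m']
      · simp [m', Function.update_of_ne h]) ⟨P, hP, by simp [m']; omega⟩
    have h1 := ih _ hlt m' rfl
    have := hres P hP
    obtain ⟨t, ht⟩ := exists_val P (-((m P - 1 : ℕ) : ℤ))
    have ht0 := ne_zero_of_val P ht
    have hle : Ls s m ≤ Ls s m' := fun x hx Q hQ => (hx Q hQ).trans (exp_le_exp.2 (by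
      rcases eq_or_ne Q P with rfl | h
      · simp [m']
      · simp [m', Function.update_of_ne h]))
    have hg : ∀ x : Ls s m', t⁻¹ * (x : K) ∈ intK P := fun x => by
      show P.1 _ ≤ 1
      rw [map_mul, map_inv₀, ht, ← exp_neg]
      refine (mul_le_mul' le_rfl (x.2 P hP)).trans ?_
      rw [← exp_add, ← exp_zero, exp_le_exp]; simp [m']
    let g : Ls s m' →ₗ[k] intK P :=
      { toFun := fun x => ⟨_, hg x⟩
        map_add' := fun a b => Subtype.ext (mul_add _ _ _)
        map_smul' := fun c a => Subtype.ext (Algebra.mul_smul_comm c t⁻¹ (a : K)) }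
    let φ := (resL P).comp g
    have hsurj : Function.Surjective φ := fun r => by
      obtain ⟨u, hu⟩ := resL_surjective P r
      obtain ⟨x, hx⟩ := exists_approx s (fun Q => if Q = P then t * (u : K) else 0) (-(N : ℤ) - 1)
      have hb : ∀ Q ∈ s, (m Q : ℤ) ≤ N := fun Q hQ => by
        exact_mod_cast hN ▸ Finset.single_le_sum (f := m) (fun _ _ => Nat.zero_le _) hQ
      have hxm : x ∈ Ls s m' := fun Q hQ => by
        have := hx Q hQ
        rw [← sub_add_cancel x (if Q = P then t * (u : K) else 0)]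
        refine (Q.1.map_add _ _).trans (max_le (this.trans (exp_le_exp.2 ?_)) ?_)
        · have := hb Q hQ
          rcases eq_or_ne Q P with rfl | h
          · simp [m']; omega
          · simp [m', Function.update_of_ne h]; omega
        · split_ifs with h
          · subst h
            rw [map_mul, ht]
            refine (mul_le_mul' le_rfl u.2).trans ?_
            rw [mul_one, exp_le_exp]; simp [m']
          · simp
      refine ⟨⟨x, hxm⟩, ?_⟩
      rw [← hu, ← sub_eq_zero]
      show resL P (g ⟨x, hxm⟩) - resL P u = 0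
      rw [← map_sub, resL_eq_zero]
      show P.1 (t⁻¹ * x - (u : K)) < 1
      rw [show t⁻¹ * x - (u : K) = t⁻¹ * (x - t * u) by rw [mul_sub, inv_mul_cancel_left₀ ht0],
        map_mul, map_inv₀, ht, ← exp_neg]
      have := hx P hP
      rw [if_pos rfl] at this
      refine lt_of_le_of_lt (mul_le_mul' le_rfl this) ?_
      rw [← exp_add, ← exp_zero, exp_lt_exp]
      have := hb P hP
      omega
    have hker : LinearMap.ker φ = (Ls s m).submoduleOf (Ls s m') := by
      ext x
      rw [LinearMap.mem_ker]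
      show resL P (g x) = 0 ↔ (x : K) ∈ Ls s m
      rw [resL_eq_zero, show ((g x : intK P) : K) = t⁻¹ * (x : K) from rfl, map_mul, map_inv₀, ht, ← exp_neg,
        lt_one_iff_le'' P (x : K)]
      constructor
      · intro h Q hQ
        rcases eq_or_ne Q P with rfl | hne
        · refine h.trans (exp_le_exp.2 ?_); omega
        · have := x.2 Q hQ
          rwa [show m' Q = m Q from Function.update_of_ne hne _ _] at this
      · intro h
        refine (h P hP).trans (exp_le_exp.2 ?_); omega
    let e := (Submodule.quotEquivOfEq _ _ hker.symm).trans (φ.quotKerEquivOfSurjective hsurj)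
    have h2 : HasIdx (Ls s m) (Ls s m') P.deg := ⟨hle, Module.Finite.equiv e.symm, by rw [e.finrank_eq]; rfl⟩
    have h3 := h2.trans h1
    have e2 : (P.deg : ℤ) + ∑ Q ∈ s, (m' Q : ℤ) * Q.deg = ∑ Q ∈ s, (m Q : ℤ) * Q.deg := by
      rw [← Finset.add_sum_erase _ _ hP, ← Finset.add_sum_erase _ _ hP, ← add_assoc]
      congr 1
      · simp only [m', Function.update_self]
        rw [Nat.cast_sub (by omega)]; push_cast; ring
      · exact Finset.sum_congr rfl fun Q hQ => by
          rw [show m' Q = m Q from Function.update_of_ne (Finset.ne_of_mem_erase hQ) _ _]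
    rw [← e2]; exact h3
where
  lt_one_iff_le'' (P : Place k K) (x : K) {n : ℤ} : exp (-(-n)) * P.1 x < 1 ↔ P.1 x ≤ exp (-n - 1) := by
    rcases eq_or_ne x 0 with rfl | hx
    · simp
    · rw [val_eq_exp P hx, ← exp_add, ← exp_zero, exp_lt_exp, exp_le_exp]; omega

theorem isPrincipalIdealRing_O (P : Place k K) : IsPrincipalIdealRing P.O := by
  refine ⟨fun I => ?_⟩
  by_cases hI : I = ⊥
  · rw [hI]; exact bot_isPrincipal
  classical
  have hex : ∃ n : ℕ, ∃ a ∈ I, a ≠ 0 ∧ (P.ord (a : K)).toNat = n := by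
    obtain ⟨a, ha, ha0⟩ := Submodule.exists_mem_ne_zero_of_ne_bot hI
    exact ⟨_, a, ha, ha0, rfl⟩
  obtain ⟨a, ha, ha0, hn⟩ := Nat.find_spec hex
  refine ⟨⟨a, le_antisymm (fun b hb => ?_) (by rwa [Ideal.submodule_span_eq, Ideal.span_singleton_le_iff_mem])⟩⟩
  rcases eq_or_ne b 0 with rfl | hb0
  · exact Submodule.zero_mem _
  have ha' : (a : K) ≠ 0 := fun e => ha0 (Subtype.ext e)
  have hb' : (b : K) ≠ 0 := fun e => hb0 (Subtype.ext e)
  have hle : P.ord (a : K) ≤ P.ord (b : K) := by
    have h1 := Nat.find_min' hex ⟨b, hb, hb0, rfl⟩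
    have h2 := (ord_nonneg_iff P ha').2 a.2
    have h3 := (ord_nonneg_iff P hb').2 b.2
    omega
  have hc : P.1 ((a : K)⁻¹ * b) ≤ 1 := by
    rw [map_mul, map_inv₀, val_eq_exp P ha', val_eq_exp P hb', ← exp_neg, ← exp_add, ← exp_zero, exp_le_exp]
    omega
  rw [Ideal.submodule_span_eq, Ideal.mem_span_singleton]
  exact ⟨⟨_, hc⟩, Subtype.ext (by simp [mul_inv_cancel_left₀ ha'])⟩

/-- Dimension of a semilocal ring modulo a principal ideal. -/
theorem finrank_quotient_span {B : Type*} [CommRing B] [Algebra k B] (f : B →ₐ[k] K)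
    (hinj : Function.Injective f) (s : Finset (Place k K))
    (hres : ∀ Q ∈ s, FiniteDimensional k (ResidueField Q.O))
    (hrange : ∀ z, z ∈ Set.range f ↔ ∀ Q ∈ s, Q.1 z ≤ 1) {x : B} (hx : x ≠ 0) :
    FiniteDimensional k (B ⧸ Ideal.span ({x} : Set B)) ∧
      (Module.finrank k (B ⧸ Ideal.span ({x} : Set B)) : ℤ) = ∑ Q ∈ s, Q.ord (f x) * Q.deg := by
  have hfx : f x ≠ 0 := fun e => hx (hinj (e.trans (map_zero f).symm))
  have hnn : ∀ Q ∈ s, 0 ≤ Q.ord (f x) := fun Q hQ => (ord_nonneg_iff Q hfx).2 ((hrange _).1 ⟨x, rfl⟩ Q hQ)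
  let m : Place k K → ℕ := fun Q => (Q.ord (f x)).toNat
  obtain ⟨-, hfin, hrank⟩ := Ls_idx s hres m
  let g : B →ₗ[k] (Ls s 0 ⧸ (Ls s m).submoduleOf (Ls s 0)) :=
    (Submodule.mkQ _).comp (LinearMap.codRestrict (Ls s 0) f.toLinearMap fun b =>
      mem_Ls_zero.2 ((hrange _).1 ⟨b, rfl⟩))
  have hg : Function.Surjective g := fun q => by
    obtain ⟨⟨z, hz⟩, rfl⟩ := Submodule.Quotient.mk_surjective _ q
    obtain ⟨b, rfl⟩ := (hrange z).2 (mem_Ls_zero.1 hz)
    exact ⟨b, rfl⟩
  have hker : LinearMap.ker g = (Ideal.span ({x} : Set B)).restrictScalars k := by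
    ext b
    rw [LinearMap.mem_ker, Submodule.restrictScalars_mem, Ideal.mem_span_singleton]
    show Submodule.Quotient.mk _ = 0 ↔ _
    rw [Submodule.Quotient.mk_eq_zero]
    show f b ∈ Ls s m ↔ _
    constructor
    · intro h
      obtain ⟨c, hc⟩ := (hrange ((f x)⁻¹ * f b)).2 fun Q hQ => by
        rw [map_mul, map_inv₀, val_eq_exp Q hfx, ← exp_neg]
        refine (mul_le_mul' le_rfl (h Q hQ)).trans ?_
        rw [← exp_add, ← exp_zero, exp_le_exp]
        simp only [m, Int.toNat_of_nonneg (hnn Q hQ)]; omega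
      exact ⟨c, hinj (by rw [map_mul, hc, mul_inv_cancel_left₀ hfx])⟩
    · rintro ⟨c, rfl⟩ Q hQ
      rw [map_mul, map_mul, val_eq_exp Q hfx]
      refine (mul_le_mul' le_rfl ((hrange _).1 ⟨c, rfl⟩ Q hQ)).trans ?_
      rw [mul_one, exp_le_exp]
      simp only [m, Int.toNat_of_nonneg (hnn Q hQ)]; omega
  let e : (B ⧸ Ideal.span ({x} : Set B)) ≃ₗ[k] _ :=
    (Submodule.Quotient.restrictScalarsEquiv k (Ideal.span ({x} : Set B))).symm.trans
      ((Submodule.quotEquivOfEq _ _ hker.symm).trans (g.quotKerEquivOfSurjective hg))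
  refine ⟨Module.Finite.equiv e.symm, ?_⟩
  rw [e.finrank_eq, hrank]
  exact Finset.sum_congr rfl fun Q hQ => by simp only [m, Int.toNat_of_nonneg (hnn Q hQ)]

end

variable {k K K' : Type*} [Field k] [Field K] [Field K'] [Algebra k K] [Algebra K K'] [Algebra k K']
  [IsScalarTower k K K'] [FiniteDimensional K K'] (hK : IsFunctionField k K) (P : Place k K)
  [Algebra P.O K'] [IsScalarTower P.O K K']

/-- The intersection of the valuation rings over `P`. -/
noncomputable def Bring (K' : Type*) [Field K'] [Algebra K K'] [Algebra k K'] [IsScalarTower k K K']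
    [FiniteDimensional K K'] [Algebra P.O K'] [IsScalarTower P.O K K'] : Subalgebra P.O K' where
  carrier := {x | ∀ Q ∈ placesOver hK K' P, Q.1 x ≤ 1}
  mul_mem' {x y} hx hy Q hQ := by rw [map_mul]; exact mul_le_one' (hx Q hQ) (hy Q hQ)
  add_mem' {x y} hx hy Q hQ := (Q.1.map_add x y).trans (max_le (hx Q hQ) (hy Q hQ))
  algebraMap_mem' a Q hQ := by
    rw [IsScalarTower.algebraMap_apply P.O K K']
    exact (val_le_one_iff ((mem_placesOver hK).1 hQ) (a : K)).2 a.2

theorem mem_Bring {x : K'} : x ∈ Bring hK P K' ↔ ∀ Q ∈ placesOver hK K' P, Q.1 x ≤ 1 := Iff.rfl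

/-- A basis of `K'` made of elements spanning the semilocal ring over `P`. -/
theorem exists_basis : ∃ b : Module.Basis (Fin (Module.finrank K K')) P.O (Bring hK P K'),
    ∃ bK : Module.Basis (Fin (Module.finrank K K')) K K', ∀ i, bK i = (b i : K') := by
  classical
  set n := Module.finrank K K'
  set s := placesOver hK K' P with hs
  have hres : ∀ Q ∈ s, FiniteDimensional k (ResidueField Q.O) := fun Q _ => residue_finite' hK Q
  let m : Place k K' → ℕ := fun Q => ramIdx Q P
  obtain ⟨hle, hfin, hrank⟩ := Ls_idx s hres m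
  have hrank' : Module.finrank k (Ls s 0 ⧸ (Ls s m).submoduleOf (Ls s 0)) = n * P.deg := by
    have h := sum_ramIdx_mul_deg (K' := K') hK P
    have : (Module.finrank k (Ls s 0 ⧸ (Ls s m).submoduleOf (Ls s 0)) : ℤ) = ((n * P.deg : ℕ) : ℤ) := by
      rw [hrank, ← h]; push_cast; rfl
    exact_mod_cast this
  let Indep : ∀ r, (Fin r → Bring hK P K') → Prop := fun r z => ∀ a : Fin r → K, (∀ i, P.1 (a i) ≤ 1) →
    ∑ i, algebraMap K K' (a i) * (z i : K') ∈ Ls s m → ∀ i, P.1 (a i) < 1
  obtain ⟨π, hπ⟩ := exists_val P (-1)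
  have hπ0 := ne_zero_of_val P hπ
  have key : ∀ r ≤ n, ∃ z : Fin r → Bring hK P K', Indep r z := by
    intro r
    induction r with
    | zero => exact fun _ => ⟨Fin.elim0, fun a _ _ i => i.elim0⟩
    | succ r ih =>
      intro hr
      obtain ⟨z, hz⟩ := ih (by omega)
      have hmem : ∀ a : Fin r → intK P, ∑ i, algebraMap K K' (a i : K) * (z i : K') ∈ Ls s 0 := fun a =>
        sum_mem fun i _ => mem_Ls_zero.2 fun Q hQ => by
          rw [map_mul]
          exact mul_le_one' ((val_le_one_iff ((mem_placesOver hK).1 hQ) _).2 (a i).2) ((z i).2 Q hQ)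
      let g : (Fin r → intK P) →ₗ[k] (Ls s 0 ⧸ (Ls s m).submoduleOf (Ls s 0)) :=
        (Submodule.mkQ _).comp (
          { toFun := fun a => ⟨_, hmem a⟩
            map_add' := fun a b => Subtype.ext (by
              simp only [Pi.add_apply, Submodule.coe_add, map_add, add_mul, Finset.sum_add_distrib])
            map_smul' := fun c a => Subtype.ext (by
              simp only [Pi.smul_apply, Submodule.coe_smul, Algebra.smul_def, map_mul,
                ← IsScalarTower.algebraMap_apply, mul_assoc, RingHom.id_apply]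
              rw [← Finset.mul_sum]) } : (Fin r → intK P) →ₗ[k] Ls s 0)
      let ψ : (Fin r → intK P) →ₗ[k] (Fin r → ResidueField P.O) := (resL P).compLeft (Fin r)
      have hψ : Function.Surjective ψ := fun w =>
        ⟨fun i => (resL_surjective P (w i)).choose, funext fun i => (resL_surjective P (w i)).choose_spec⟩
      have hkg : LinearMap.ker ψ ≤ LinearMap.ker g := fun a ha => by
        rw [LinearMap.mem_ker] at ha ⊢
        show Submodule.Quotient.mk _ = 0
        rw [Submodule.Quotient.mk_eq_zero]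
        show ∑ i, algebraMap K K' (a i : K) * (z i : K') ∈ Ls s m
        refine sum_mem fun i _ => fun Q hQ => ?_
        have h1 : P.1 (a i : K) ≤ exp (-1) := (lt_one_iff_le P).1 ((resL_eq_zero P (a i)).1 (congrFun ha i))
        have he := isOverWith_of_isOver ((mem_placesOver hK).1 hQ)
        rw [map_mul, he]
        refine (mul_le_mul' (pow_le_pow_left' h1 _) ((z i).2 Q hQ)).trans ?_
        rw [mul_one, ← exp_nsmul, exp_le_exp]; simp [m]
      haveI := residue_finite hK P
      have hsmall : Module.finrank k (LinearMap.range g) ≤ r * P.deg := by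
        have hfac : LinearMap.range g = LinearMap.range
            (((LinearMap.ker ψ).liftQ g hkg).comp (ψ.quotKerEquivOfSurjective hψ).symm.toLinearMap) := by
          conv_rhs => rw [LinearMap.range_comp, LinearEquiv.range, Submodule.map_top, Submodule.range_liftQ]
        rw [hfac]
        refine (LinearMap.finrank_range_le _).trans (le_of_eq ?_)
        rw [Module.finrank_pi_fintype, Finset.sum_const, Finset.card_univ, Fintype.card_fin, smul_eq_mul]
        rfl
      have hne : LinearMap.range g ≠ ⊤ := fun e => by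
        rw [e, finrank_top, hrank'] at hsmall
        have := Nat.le_of_mul_le_mul_right hsmall (deg_pos hK P)
        omega
      obtain ⟨q, -, hq⟩ := SetLike.exists_of_lt hne.lt_top
      obtain ⟨⟨w, hw⟩, rfl⟩ := Submodule.Quotient.mk_surjective _ q
      refine ⟨Fin.snoc z ⟨w, mem_Ls_zero.1 hw⟩, fun a ha hsum => ?_⟩
      rw [Fin.sum_univ_castSucc] at hsum
      simp only [Fin.snoc_castSucc, Fin.snoc_last] at hsum
      have hlast : P.1 (a (Fin.last r)) < 1 := by
        refine lt_of_le_of_ne (ha _) fun h1 => hq ?_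
        have hal0 : a (Fin.last r) ≠ 0 := fun e => by rw [e, map_zero] at h1; exact zero_ne_one h1
        refine ⟨fun i => ⟨-(a (Fin.last r))⁻¹ * a i.castSucc, ?_⟩, ?_⟩
        · show P.1 _ ≤ 1
          rw [map_mul, Valuation.map_neg, map_inv₀, h1, inv_one, one_mul]
          exact ha _
        · refine (Submodule.Quotient.eq _).2 ?_
          show ∑ i, algebraMap K K' (-(a (Fin.last r))⁻¹ * a i.castSucc) * (z i : K') - w ∈ Ls s m
          have : ∑ i, algebraMap K K' (-(a (Fin.last r))⁻¹ * a i.castSucc) * (z i : K') - w =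
              -(algebraMap K K' (a (Fin.last r)))⁻¹ * (∑ i, algebraMap K K' (a i.castSucc) * (z i : K') +
                algebraMap K K' (a (Fin.last r)) * w) := by
            rw [mul_add, Finset.mul_sum, neg_mul, inv_mul_cancel_left₀ ((map_ne_zero _).2 hal0),
              ← sub_eq_add_neg]
            refine congrArg (· - w) (Finset.sum_congr rfl fun i _ => ?_)
            simp only [map_mul, map_neg, map_inv₀]; ring
          rw [this]
          intro Q hQ
          rw [map_mul, Valuation.map_neg, map_inv₀, isOverWith_of_isOver ((mem_placesOver hK).1 hQ), h1,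
            one_pow, inv_one, one_mul]
          exact hsum Q hQ
      have hsum' : ∑ i : Fin r, algebraMap K K' (a i.castSucc) * (z i : K') ∈ Ls s m := by
        rw [← add_sub_cancel_right (∑ i : Fin r, algebraMap K K' (a i.castSucc) * (z i : K'))
          (algebraMap K K' (a (Fin.last r)) * w)]
        refine sub_mem hsum fun Q hQ => ?_
        rw [map_mul, isOverWith_of_isOver ((mem_placesOver hK).1 hQ)]
        refine (mul_le_mul' (pow_le_pow_left' ((lt_one_iff_le P).1 hlast) _) (mem_Ls_zero.1 hw Q hQ)).trans ?_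
        rw [mul_one, ← exp_nsmul, exp_le_exp]; simp [m]
      intro i
      induction i using Fin.lastCases with
      | last => exact hlast
      | cast i => exact hz (fun i => a i.castSucc) (fun i => ha _) hsum' i
  obtain ⟨z, hz⟩ := key n le_rfl
  -- scaled coefficients
  have hscale : ∀ a : Fin n → K, ∀ b : Fin n, (∀ i, P.1 (a i) ≤ P.1 (a b)) → 1 < P.1 (a b) →
      ¬ ∀ Q ∈ s, Q.1 (∑ i, algebraMap K K' (a i) * (z i : K')) ≤ 1 := by
    intro a b hmax hb hint
    have hab : a b ≠ 0 := fun e => by rw [e, map_zero] at hb; exact not_lt_zero hb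
    have h := hz (fun i => (a b)⁻¹ * a i) (fun i => by
        rw [map_mul, map_inv₀, inv_mul_le_one₀ (lt_trans zero_lt_one hb)]; exact hmax i) (fun Q hQ => by
      rw [show ∑ i, algebraMap K K' ((a b)⁻¹ * a i) * (z i : K') =
        algebraMap K K' (a b)⁻¹ * ∑ i, algebraMap K K' (a i) * (z i : K') by
          rw [Finset.mul_sum]; exact Finset.sum_congr rfl fun i _ => by rw [map_mul]; ring]
      have he := isOverWith_of_isOver ((mem_placesOver hK).1 hQ)
      have h1 : P.1 (a b)⁻¹ ≤ exp (-1) := (lt_one_iff_le P).1 (by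
        rw [map_inv₀]; exact inv_lt_one_of_one_lt₀ hb)
      rw [map_mul, he]
      refine (mul_le_mul' (pow_le_pow_left' h1 _) (hint Q hQ)).trans ?_
      rw [mul_one, ← exp_nsmul, exp_le_exp]; simp [m]) b
    simp only [map_mul, map_inv₀] at h
    rw [inv_mul_cancel₀ (ne_of_gt (lt_trans zero_lt_one hb))] at h
    exact lt_irrefl _ h
  have hli : LinearIndependent K fun i => (z i : K') := by
    rw [Fintype.linearIndependent_iff]
    intro a ha b
    by_contra hb
    obtain ⟨c, -, hc⟩ := Finset.exists_max_image Finset.univ (fun i => P.1 (a i)) ⟨b, Finset.mem_univ b⟩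
    have hc0 : P.1 (a c) ≠ 0 := fun e => hb ((map_eq_zero P.1).1 (le_antisymm (e ▸ hc b (Finset.mem_univ b)) zero_le))
    obtain ⟨t, ht⟩ := exists_val P (1 - log (P.1 (a c)))
    refine hscale (fun i => t * a i) c (fun i => ?_) ?_ fun Q _ => ?_
    · rw [map_mul, map_mul]; exact mul_le_mul' le_rfl (hc i (Finset.mem_univ i))
    · rw [map_mul, ht]
      conv_rhs => arg 2; rw [← exp_log hc0]
      rw [← exp_add]
      exact exp_zero.symm.trans_lt (exp_lt_exp.2 (by omega))
    · have : ∑ i, algebraMap K K' (t * a i) * (z i : K') = algebraMap K K' t * ∑ i, a i • (z i : K') := by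
        rw [Finset.mul_sum]; exact Finset.sum_congr rfl fun i _ => by rw [map_mul, Algebra.smul_def]; ring
      rw [this, ha]; simp
  let bK : Module.Basis (Fin n) K K' :=
    basisOfLinearIndependentOfCardEqFinrank' _ hli (Fintype.card_fin n)
  have hbK : ∀ i, bK i = (z i : K') := fun i => by simp [bK]
  have hA : ∀ (a : P.O) (x : K'), a • x = algebraMap K K' (a : K) * x := fun a x => by
    rw [Algebra.smul_def, IsScalarTower.algebraMap_apply P.O K K']; rfl
  have hspan : ⊤ ≤ Submodule.span P.O (Set.range z) := by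
    rintro ⟨x, hx⟩ -
    have hrepr := bK.sum_repr x
    simp only [hbK, Algebra.smul_def] at hrepr
    have hle : ∀ i, P.1 (bK.repr x i) ≤ 1 := by
      by_contra hc
      push Not at hc
      obtain ⟨j, hj⟩ := hc
      obtain ⟨c, -, hcmax⟩ := Finset.exists_max_image Finset.univ (fun i => P.1 (bK.repr x i)) ⟨j, Finset.mem_univ j⟩
      exact hscale _ c (fun i => hcmax i (Finset.mem_univ i)) (hj.trans_le (hcmax j (Finset.mem_univ j)))
        (hrepr.symm ▸ hx)
    rw [Submodule.mem_span_range_iff_exists_fun]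
    refine ⟨fun i => ⟨bK.repr x i, hle i⟩, Subtype.ext ?_⟩
    rw [AddSubmonoidClass.coe_finsetSum]
    refine Eq.trans (Finset.sum_congr rfl fun i _ => ?_) hrepr
    rw [Subalgebra.coe_smul, hA]
  have hliA : LinearIndependent P.O z := by
    rw [Fintype.linearIndependent_iff]
    intro a ha i
    have h' := congrArg (fun w : Bring hK P K' => (w : K')) ha
    simp only [AddSubmonoidClass.coe_finsetSum, Subalgebra.coe_smul, hA, ZeroMemClass.coe_zero] at h'
    exact Subtype.ext (Fintype.linearIndependent_iff.1 hli (fun i => (a i : K))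
      (by simpa only [Algebra.smul_def] using h') i)
  exact ⟨Module.Basis.mk hliA hspan, bK, fun i => by rw [hbK, Module.Basis.mk_apply]⟩

theorem finite_Bring : Module.Finite P.O (Bring hK P K') := by
  obtain ⟨b, -⟩ := exists_basis (K' := K') hK P
  exact Module.Finite.of_basis b

theorem integralClosure_eq : integralClosure P.O K' = Bring hK P K' := by
  haveI := finite_Bring (K' := K') hK P
  refine le_antisymm (fun x hx Q hQ => ?_) fun x hx => ?_
  · obtain ⟨p, hp, hpx⟩ := (mem_integralClosure_iff _ _).1 hx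
    by_contra hlt
    rw [not_le] at hlt
    rw [← Polynomial.aeval_def, Polynomial.aeval_eq_sum_range, Finset.sum_range_succ,
      hp.coeff_natDegree, one_smul] at hpx
    set d := p.natDegree
    have hsum : Q.1 (∑ i ∈ Finset.range d, p.coeff i • x ^ i) < Q.1 (x ^ d) := by
      rw [map_pow]
      rcases Nat.eq_zero_or_pos d with hd | hd
      · simp [hd]
      refine lt_of_le_of_lt (b := Q.1 x ^ (d - 1)) (Valuation.map_sum_le _ fun i hi => ?_)
        (pow_lt_pow_right₀ hlt (by omega))
      rw [Algebra.smul_def, map_mul, map_pow, IsScalarTower.algebraMap_apply P.O K K']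
      exact (mul_le_mul' ((val_le_one_iff ((mem_placesOver hK).1 hQ) _).2 (p.coeff i).2) le_rfl).trans_eq
        (one_mul _) |>.trans (pow_le_pow_right₀ hlt.le (by have := Finset.mem_range.1 hi; omega))
    have := Valuation.map_add_eq_of_lt_right Q.1 hsum
    rw [hpx, map_zero] at this
    exact absurd this.symm ((pow_ne_zero _ ((ne_of_gt (lt_trans zero_lt_one hlt)))) ∘ fun e => by rwa [map_pow] at e)
  · exact (IsIntegral.of_finite P.O (⟨x, hx⟩ : Bring hK P K')).map (Bring hK P K').val

/-- The norm and the degrees. -/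
theorem deg_mul_ord_norm (x : K') :
    (P.deg : ℤ) * P.ord (Algebra.norm K x) = ∑ Q ∈ placesOver hK K' P, (Q.deg : ℤ) * Q.ord x := by
  classical
  rcases eq_or_ne x 0 with rfl | hx0
  · simp [ord_zero, Algebra.norm_zero]
  obtain ⟨b, bK, hb⟩ := exists_basis (K' := K') hK P
  set s := placesOver hK K' P
  haveI : IsScalarTower k P.O K' := IsScalarTower.of_algebraMap_eq fun c => by
    rw [IsScalarTower.algebraMap_apply P.O K K', IsScalarTower.algebraMap_apply k K K']; rfl
  haveI : IsScalarTower k P.O K := IsScalarTower.of_algebraMap_eq fun _ => rfl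
  obtain ⟨t, ht⟩ := exists_val P (-1)
  haveI : IsPrincipalIdealRing P.O := isPrincipalIdealRing_O P
  have main : ∀ y : Bring hK P K', y ≠ 0 →
      (P.deg : ℤ) * P.ord (Algebra.norm K (y : K')) = ∑ Q ∈ s, (Q.deg : ℤ) * Q.ord (y : K') := by
    intro y hy
    have hnorm : Algebra.norm K (y : K') = ((Algebra.norm P.O y : P.O) : K) := by
      rw [Algebra.norm_eq_matrix_det bK, Algebra.norm_eq_matrix_det b]
      show _ = P.O.subtype _
      rw [RingHom.map_det]
      congr 1
      ext i j
      rw [RingHom.mapMatrix_apply, Matrix.map_apply, Algebra.leftMulMatrix_eq_repr_mul,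
        Algebra.leftMulMatrix_eq_repr_mul, hb]
      have h := congrArg (fun w : Bring hK P K' => (w : K')) (b.sum_repr (y * b j))
      simp only [AddSubmonoidClass.coe_finsetSum, Subalgebra.coe_smul, MulMemClass.coe_mul] at h
      rw [← h, show ∑ i, b.repr (y * b j) i • (b i : K') = ∑ i, ((b.repr (y * b j) i : P.O) : K) • bK i from
        Finset.sum_congr rfl fun i _ => by rw [hb, ← algebraMap_smul K (b.repr (y * b j) i) (b i : K')]; rfl,
        bK.repr_sum_self]
      rfl
    have hspan : Ideal.span ({y} : Set (Bring hK P K')) ≠ ⊥ := by simpa using hy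
    have hq1 := finrank_quotient_span (B := Bring hK P K') ((Bring hK P K').val.restrictScalars k)
      Subtype.val_injective s (fun Q _ => residue_finite' hK Q)
      (fun z => ⟨by rintro ⟨b, rfl⟩; exact b.2, fun h => ⟨⟨z, h⟩, rfl⟩⟩) hy
    have hq2 : ∀ a : P.O, a ≠ 0 → FiniteDimensional k (P.O ⧸ Ideal.span ({a} : Set P.O)) ∧
        (Module.finrank k (P.O ⧸ Ideal.span ({a} : Set P.O)) : ℤ) = P.ord (a : K) * P.deg := fun a ha => by
      have := finrank_quotient_span (IsScalarTower.toAlgHom k P.O K) Subtype.val_injective {P}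
        (fun Q hQ => by rw [Finset.mem_singleton.1 hQ]; exact residue_finite hK P)
        (fun z => ⟨by rintro ⟨b, rfl⟩ Q hQ; rw [Finset.mem_singleton.1 hQ]; exact b.2,
          fun h => ⟨⟨z, h P (Finset.mem_singleton_self P)⟩, rfl⟩⟩) ha
      simp only [Finset.sum_singleton] at this
      exact this
    haveI : ∀ i, Module.Finite k (P.O ⧸ Ideal.span ({(Ideal.span ({y} : Set (Bring hK P K'))).smithCoeffs b hspan i} : Set P.O)) :=
      fun i => (hq2 _ (Ideal.smithCoeffs_ne_zero b _ hspan i)).1
    have hsum := Ideal.finrank_quotient_eq_sum k hspan b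
    have hassoc := Algebra.norm P.O y
    obtain ⟨u, hu⟩ := associated_norm_prod_smith b hy
    have hN : (Algebra.norm K (y : K')) ≠ 0 := Algebra.norm_ne_zero_iff.2 fun e => hy (Subtype.ext e)
    have hord : P.ord (Algebra.norm K (y : K')) = ∑ i, P.ord (((Ideal.span ({y} : Set (Bring hK P K'))).smithCoeffs b hspan i : P.O) : K) := by
      have hu' : P.1 ((u : P.O) : K) = 1 :=
        (Valuation.integer.integers P.1).isUnit_iff_valuation_eq_one.1 u.isUnit
      have e1 : P.ord ((Algebra.norm P.O y * u : P.O) : K) = P.ord (Algebra.norm K (y : K')) := by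
        rw [MulMemClass.coe_mul, hnorm, ord_mul P (hnorm ▸ hN) (fun e => by rw [e, map_zero] at hu'; exact zero_ne_one hu')]
        have : P.ord ((u : P.O) : K) = 0 := by rw [ord_eq_of_val P (n := 0) (by rw [hu', exp_zero])]; rfl
        omega
      rw [← e1, hu, SubmonoidClass.coe_finset_prod]
      exact ord_prod P _ _ fun i _ => fun e => Ideal.smithCoeffs_ne_zero b _ hspan i (Subtype.ext e)
    rw [hord, Finset.mul_sum]
    rw [show (∑ Q ∈ s, (Q.deg : ℤ) * Q.ord (y : K')) = (Module.finrank k (Bring hK P K' ⧸ Ideal.span ({y} : Set (Bring hK P K'))) : ℤ) from by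
      rw [hq1.2]; exact Finset.sum_congr rfl fun Q _ => mul_comm _ _, hsum, Nat.cast_sum]
    exact Finset.sum_congr rfl fun i _ => by
      rw [(hq2 _ (Ideal.smithCoeffs_ne_zero b _ hspan i)).2, mul_comm]
  -- clear denominators
  set N := ∑ Q ∈ s, (Q.ord x).natAbs
  have hmem : algebraMap K K' t ^ N * x ∈ Bring hK P K' := fun Q hQ => by
    have he := isOverWith_of_isOver ((mem_placesOver hK).1 hQ)
    rw [map_mul, map_pow, he, ht, val_eq_exp Q hx0, ← exp_nsmul, ← exp_nsmul, ← exp_add, ← exp_zero, exp_le_exp]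
    have h1 := Finset.single_le_sum (f := fun Q => (Q.ord x).natAbs) (fun _ _ => Nat.zero_le _) hQ
    have h2 : (1 : ℤ) ≤ ramIdx Q P := by exact_mod_cast IsOverWith.pos he
    simp only [nsmul_eq_mul, mul_neg, mul_one]
    have h3 : (Q.ord x).natAbs ≤ N := h1
    nlinarith [Int.natCast_nonneg N, Int.natCast_natAbs (Q.ord x), neg_abs_le (Q.ord x)]
  have ht0 : algebraMap K K' t ≠ 0 := (map_ne_zero _).2 (ne_zero_of_val P ht)
  have hy : (⟨_, hmem⟩ : Bring hK P K') ≠ 0 := fun e =>
    mul_ne_zero (pow_ne_zero _ ht0) hx0 (congrArg Subtype.val e)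
  have := main _ hy
  simp only [map_mul, map_pow, Algebra.norm_algebraMap] at this
  rw [ord_mul P (pow_ne_zero _ (pow_ne_zero _ (ne_zero_of_val P ht))) (Algebra.norm_ne_zero_iff.2 hx0),
    ord_pow, ord_pow, ord_eq_of_val P ht, Finset.sum_congr rfl fun Q hQ => show (Q.deg : ℤ) * Q.ord (algebraMap K K' t ^ N * x) = (N : ℤ) * ((ramIdx Q P : ℤ) * Q.deg) + Q.deg * Q.ord x by
      rw [ord_mul Q (pow_ne_zero _ ht0) hx0, ord_pow, IsOverWith.ord (isOverWith_of_isOver ((mem_placesOver hK).1 hQ)), ord_eq_of_val P ht]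
      ring, Finset.sum_add_distrib, ← Finset.mul_sum] at this
  have h := sum_ramIdx_mul_deg (K' := K') hK P
  have h' : ∑ Q ∈ s, (ramIdx Q P : ℤ) * Q.deg = (Module.finrank K K' : ℤ) * P.deg := by exact_mod_cast h
  rw [h'] at this
  linarith
where
  ord_prod {ι : Type _} (P : Place k K) (s : Finset ι) (f : ι → K) (hf : ∀ i ∈ s, f i ≠ 0) :
      P.ord (∏ i ∈ s, f i) = ∑ i ∈ s, P.ord (f i) := by
    classical
    induction s using Finset.induction_on with
    | empty => simpa using ord_algebraMap P (1 : k)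
    | insert a s ha ih =>
      rw [Finset.prod_insert ha, Finset.sum_insert ha, ord_mul P (hf a (Finset.mem_insert_self a s))
        (Finset.prod_ne_zero_iff.2 fun i hi => hf i (Finset.mem_insert_of_mem hi)),
        ih fun i hi => hf i (Finset.mem_insert_of_mem hi)]

end Groth.Agent.FunFld
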